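import Mathlib
import Cfsg.Prelude.Def_Transfer
import Cfsg.Agent.S3736
import Cfsg.Agent.OddOrderLocal.ExtraspecialCycle
import Cfsg.Agent.H301.SY.Base

/-!
# A Hall-Higman type lemma in coprime characteristic (helper333, for S3846)

A `p`-element acts trivially on every `t`-group which it normalises, in a faithful representation of
degree `< p - 1` over a field of characteristic different from `p` and `t`.
-/

set_option autoImplicit false
set_option linter.unusedSectionVars false

namespace Cfsg.Agent.H333.HallHig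

open Module Subgroup
open scoped commutatorElement
open Cfsg.Agent.OddOrderLocal.ExtraCycle.Lin
open Cfsg.Agent.OddOrderLocal.ExtraCycle.Irred

section Dim

variable {K : Type*} [Field K] [IsAlgClosed K] {P : Type*} [Group P] [Finite P] {W : Type*} [AddCommGroup W]
  [Module K W] [FiniteDimensional K W] {ρ : P →* Module.End K W} {ω : P → K}

/-- `|P / Z(P)| = (dim W)²` for a faithful irreducible representation of a group of class at most 2 -/
theorem card_quot_eq (hρ : Irr ρ) (hc : CentralChar ρ ω) (hP : (Nat.card P : K) ≠ 0) :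
    Nat.card (P ⧸ Subgroup.center P) = finrank K W * finrank K W := by
  classical
  have hft : Fintype P := Fintype.ofFinite P
  have hftq : Fintype (P ⧸ Subgroup.center P) := Fintype.ofFinite _
  have hZ : (Nat.card (Subgroup.center P) : K) ≠ 0 := by
    intro h
    apply hP
    obtain ⟨c, hc⟩ := Subgroup.card_subgroup_dvd_card (Subgroup.center P)
    rw [hc, Nat.cast_mul, h, zero_mul]
  refine le_antisymm (card_quot_le hc (finrank_ne_zero hρ hP)) ?_
  let L : Module.End K W →ₗ[K] ((P ⧸ Subgroup.center P) → K) :=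
    LinearMap.pi fun q => (LinearMap.trace K W) ∘ₗ (LinearMap.mulRight K (ρ (q.out)⁻¹))
  have hL : Function.Injective L := by
    rw [injective_iff_map_eq_zero]
    intro b hb
    apply eq_zero_of_trace hρ hc hP hZ
    intro t
    have h1 : LinearMap.trace K W (b * ρ ((t : P ⧸ Subgroup.center P).out)⁻¹) = 0 :=
      congrFun hb (t : P ⧸ Subgroup.center P)
    obtain ⟨z, hz⟩ := QuotientGroup.mk_out_eq_mul (Subgroup.center P) t
    have h2 : t = (z : P)⁻¹ * (t : P ⧸ Subgroup.center P).out := by
      rw [hz]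
      have := Subgroup.mem_center_iff.1 z.2 t
      rw [this]; group
    rw [h2]
    exact trace_center_mul hc b (Subgroup.inv_mem _ z.2) _ h1
  have h7 := LinearMap.finrank_le_finrank_of_injective hL
  rwa [Module.finrank_fintype_fun_eq_card, Module.finrank_linearMap, ← Nat.card_eq_fintype_card] at h7

end Dim

section Index

variable {K : Type*} [Field K] [IsAlgClosed K] {R : Type*} [Group R] [Finite R] {W : Type*} [AddCommGroup W]
  [Module K W] [FiniteDimensional K W]

/-- the preimage of the centre of the image of a representation -/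
def cen (σ : R →* Module.End K W) : Subgroup R :=
  (Subgroup.center σ.toHomUnits.range).comap σ.toHomUnits.rangeRestrict

omit [IsAlgClosed K] [Finite R] [FiniteDimensional K W] in
theorem mem_cen {σ : R →* Module.End K W} {g : R} : g ∈ cen σ ↔ ∀ h, σ (g * h) = σ (h * g) := by
  unfold cen
  rw [Subgroup.mem_comap, Subgroup.mem_center_iff]
  constructor
  · intro H h
    have h1 := H ⟨σ.toHomUnits h, ⟨h, rfl⟩⟩
    have h2 : σ.toHomUnits h * σ.toHomUnits g = σ.toHomUnits g * σ.toHomUnits h := congrArg Subtype.val h1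
    rw [← map_mul, ← map_mul] at h2
    exact (congrArg Units.val h2).symm
  · rintro H ⟨_, h, rfl⟩
    apply Subtype.ext
    show σ.toHomUnits h * σ.toHomUnits g = σ.toHomUnits g * σ.toHomUnits h
    rw [← map_mul, ← map_mul]
    apply Units.ext
    exact (H h).symm

/-- for an irreducible representation of a group of class at most 2, the index of the elements which are central in the
image is the square of the degree -/
theorem index_cen {σ : R →* Module.End K W} (hσ : Irr σ)
    (hcl : ∀ x y : R, x * y * x⁻¹ * y⁻¹ ∈ Subgroup.center R) (hR : (Nat.card R : K) ≠ 0) :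
    (cen σ).index = finrank K W * finrank K W := by
  classical
  let P := σ.toHomUnits.range
  have hfin : Finite P := Set.finite_range σ.toHomUnits |>.to_subtype
  let τ : P →* Module.End K W := (Units.coeHom _).comp P.subtype
  have hτ : ∀ g : R, τ ⟨σ.toHomUnits g, ⟨g, rfl⟩⟩ = σ g := fun g => rfl
  have hirr : Irr τ := by
    refine ⟨hσ.1, fun U hU => hσ.2 U fun g u hu => ?_⟩
    exact hU ⟨σ.toHomUnits g, ⟨g, rfl⟩⟩ u hu
  have hinj : Function.Injective τ := by
    intro a b hab
    exact Subtype.ext (Units.ext hab)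
  have hsc : ∀ z ∈ Subgroup.center P, ∃ c : K, τ z = c • (1 : Module.End K W) := by
    intro z hz
    apply schur hirr
    intro x
    rw [← map_mul, ← map_mul, Subgroup.mem_center_iff.1 hz x]
  let ω : P → K := fun z => if h : z ∈ Subgroup.center P then (hsc z h).choose else 0
  have hω : ∀ z ∈ Subgroup.center P, τ z = ω z • (1 : Module.End K W) := by
    intro z hz
    show τ z = (if h : z ∈ Subgroup.center P then (hsc z h).choose else 0) • (1 : Module.End K W)
    rw [dif_pos hz]
    exact (hsc z hz).choose_spec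
  have hc : CentralChar τ ω := by
    refine ⟨?_, hω, ?_⟩
    · rintro ⟨_, x, rfl⟩ ⟨_, y, rfl⟩
      rw [Subgroup.mem_center_iff]
      rintro ⟨_, h, rfl⟩
      apply Subtype.ext
      show σ.toHomUnits h * (σ.toHomUnits x * σ.toHomUnits y * (σ.toHomUnits x)⁻¹ * (σ.toHomUnits y)⁻¹) =
        (σ.toHomUnits x * σ.toHomUnits y * (σ.toHomUnits x)⁻¹ * (σ.toHomUnits y)⁻¹) * σ.toHomUnits h
      have h1 := Subgroup.mem_center_iff.1 (hcl x y) h
      have h2 := congrArg σ.toHomUnits h1
      simpa only [map_mul, map_inv] using h2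
    · intro z hz hz1 h1
      apply hz1
      apply hinj
      rw [hω z hz, h1, one_smul, map_one]
  have hPd : Nat.card P ∣ Nat.card R := Subgroup.card_range_dvd σ.toHomUnits
  have hP : (Nat.card P : K) ≠ 0 := by
    intro h
    apply hR
    obtain ⟨c, hc⟩ := hPd
    rw [hc, Nat.cast_mul, h, zero_mul]
  have h1 := card_quot_eq hirr hc hP
  rw [← h1]
  unfold cen
  rw [Subgroup.index_comap_of_surjective _ (MonoidHom.rangeRestrict_surjective _)]
  rfl

end Index

/-- simultaneous eigenvectors with different characters are linearly independent -/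
theorem le_finrank {K : Type*} [Field K] {R : Type*} {W : Type*} [AddCommGroup W]
    [Module K W] [FiniteDimensional K W] (σ : R → Module.End K W) (hcomm : ∀ a b, Commute (σ a) (σ b)) {n : ℕ}
    (v : Fin n → W) (χ : Fin n → R → K) (hχ : Function.Injective χ) (hv : ∀ i a, σ a (v i) = χ i a • v i)
    (hv0 : ∀ i, v i ≠ 0) : n ≤ finrank K W := by
  have h1 : iSupIndep fun χ : R → K ↦ ⨅ i, (σ i).maxGenEigenspace (χ i) :=
    Module.End.independent_iInf_maxGenEigenspace_of_forall_mapsTo σ fun i j φ =>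
      Module.End.mapsTo_maxGenEigenspace_of_comm (hcomm j i) φ
  have h2 := (h1.comp hχ).linearIndependent _ (v := v) (fun i => by
    show v i ∈ ⨅ a, (σ a).maxGenEigenspace (χ i a)
    rw [Submodule.mem_iInf]
    intro a
    rw [Module.End.mem_maxGenEigenspace]
    exact ⟨1, by rw [pow_one, LinearMap.sub_apply, hv i a, LinearMap.smul_apply, Module.End.one_apply, sub_self]⟩) hv0
  have h3 := h2.fintype_card_le_finrank
  rwa [Fintype.card_fin] at h3

section Group

variable {K : Type*} [Field K] [IsAlgClosed K] {G : Type*} [Group G] [Finite G] {V : Type*} [AddCommGroup V]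
  [Module K V] [FiniteDimensional K V]

/-- a central element acting nontrivially acts as a scalar different from 1 on some irreducible subrepresentation -/
theorem exists_irr_scalar (σ : G →* Module.End K V) {z : G} (hz : z ∈ Subgroup.center G) (hz1 : σ z ≠ 1)
    (hG : (Nat.card G : K) ≠ 0) :
    ∃ (U : Submodule K V) (hU : Inv σ U), Irr (restr σ U hU) ∧ ∃ r : K, r ≠ 1 ∧ ∀ u ∈ U, σ z u = r • u := by
  obtain ⟨r, hr, hE⟩ := Cfsg.Agent.OddOrderLocal.ExtraspecialCycle.exists_eigenvalue_ne_one (p := Nat.card G) hG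
    (σ z) (by rw [← map_pow, pow_card_eq_one', map_one]) hz1
  have hinv : Inv σ (Module.End.eigenspace (σ z) r) := by
    intro x u hu
    rw [Module.End.mem_eigenspace_iff] at hu ⊢
    rw [← Module.End.mul_apply, ← map_mul, ← Subgroup.mem_center_iff.1 hz x, map_mul, Module.End.mul_apply, hu,
      map_smul]
  obtain ⟨U, hU, hUE, hirr⟩ := exists_irr σ _ hE hinv
  exact ⟨U, hU, hirr, r, hr, fun u hu => Module.End.mem_eigenspace_iff.1 (hUE hu)⟩

variable {p t : ℕ} {R : Subgroup G} {x : G}

/-- the abelian case -/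
theorem ab_case {ρ : G →* Module.End K V} (hρ : Function.Injective ρ) (hp : p.Prime) (ht : t.Prime)
    (htK : (t : K) ≠ 0) (hR : IsPGroup t R) (hab : ∀ a ∈ R, ∀ b ∈ R, a * b = b * a)
    (hx : ∃ n : ℕ, orderOf x = p ^ n) (hN : x ∈ normalizer (R : Set G)) (hd : finrank K V < p)
    (hgen : ⁅R, zpowers x⁆ = R) : R = ⊥ := by
  classical
  by_contra hne
  obtain ⟨z, hz, hz1⟩ : ∃ z ∈ R, z ≠ 1 := by
    by_contra hcon
    push Not at hcon
    exact hne ((Subgroup.eq_bot_iff_forall R).2 hcon)
  let σ : R →* Module.End K V := ρ.comp R.subtype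
  have hσ : ∀ a : R, σ a = ρ (a : G) := fun _ => rfl
  have hRK : (Nat.card R : K) ≠ 0 := by
    obtain ⟨m, hm⟩ := (haveI : Fact t.Prime := ⟨ht⟩; IsPGroup.iff_card.1 hR)
    rw [hm, Nat.cast_pow]
    exact pow_ne_zero _ htK
  obtain ⟨U, hU, hirr, r, hr, hru⟩ := exists_irr_scalar σ (z := ⟨z, hz⟩) (by
    rw [Subgroup.mem_center_iff]
    intro g
    exact Subtype.ext (hab g g.2 z hz)) (by
    intro h
    exact hz1 (hρ (by rw [map_one]; exact h))) hRK
  have hsc : ∀ a : R, ∃ c : K, restr σ U hU a = c • (1 : Module.End K U) := by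
    intro a
    apply schur hirr
    intro b
    rw [← map_mul, ← map_mul]
    congr 1
    exact Subtype.ext (hab a a.2 b b.2)
  choose c hc using hsc
  have hnt := hirr.1
  obtain ⟨u₀, hu₀⟩ := exists_ne (0 : U)
  obtain ⟨u, huU⟩ := u₀
  have hu0 : u ≠ 0 := fun h => hu₀ (Subtype.ext h)
  let μ : G → K := fun g => if h : g ∈ R then c ⟨g, h⟩ else 0
  have hμ : ∀ a ∈ R, ρ a u = μ a • u := by
    intro a ha
    have h1 := congrArg Subtype.val (LinearMap.congr_fun (hc ⟨a, ha⟩) ⟨u, huU⟩)
    have h2 : ρ a u = c ⟨a, ha⟩ • u := h1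
    rw [h2]
    congr 1
    show c ⟨a, ha⟩ = (if h : a ∈ R then c ⟨a, h⟩ else 0)
    rw [dif_pos ha]
  have hμu : ∀ a ∈ R, ∀ s : K, ρ a u = s • u → μ a = s := by
    intro a ha s hs
    rw [hμ a ha] at hs
    exact smul_left_injective K hu0 hs
  have hμm : ∀ a ∈ R, ∀ b ∈ R, μ (a * b) = μ a * μ b := by
    intro a ha b hb
    apply hμu _ (R.mul_mem ha hb)
    rw [map_mul, Module.End.mul_apply, hμ b hb, map_smul, hμ a ha, smul_smul, mul_comm]
  have hμ1 : μ 1 = 1 := hμu 1 R.one_mem 1 (by rw [map_one, one_smul, Module.End.one_apply])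
  have hμz : μ z = r := hμu z hz r (hru u huU)
  -- the stabilizer
  let St : Subgroup G :=
    { carrier := {y | y ∈ normalizer (R : Set G) ∧ ∀ b ∈ R, μ (y * b * y⁻¹) = μ b}
      mul_mem' := by
        rintro a b ⟨ha, ha'⟩ ⟨hb, hb'⟩
        refine ⟨mul_mem ha hb, fun c hc => ?_⟩
        have h1 : a * b * c * (a * b)⁻¹ = a * (b * c * b⁻¹) * a⁻¹ := by group
        rw [h1, ha' _ ((mem_normalizer_iff.1 hb c).1 hc), hb' c hc]
      one_mem' := ⟨one_mem _, fun b _ => by simp⟩
      inv_mem' := by
        rintro a ⟨ha, ha'⟩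
        refine ⟨inv_mem ha, fun c hc => ?_⟩
        have h1 := ha' (a⁻¹ * c * a⁻¹⁻¹) ((mem_normalizer_iff.1 (inv_mem ha) c).1 hc)
        rw [← h1]
        congr 1
        group }
  have hxSt : x ∉ St := by
    intro hxS
    let N : Subgroup G :=
      { carrier := {a | a ∈ R ∧ μ a = 1}
        mul_mem' := by
          rintro a b ⟨ha, ha'⟩ ⟨hb, hb'⟩
          exact ⟨mul_mem ha hb, by rw [hμm a ha b hb, ha', hb', one_mul]⟩
        one_mem' := ⟨one_mem _, hμ1⟩
        inv_mem' := by
          rintro a ⟨ha, ha'⟩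
          refine ⟨inv_mem ha, ?_⟩
          have h1 := hμm a ha a⁻¹ (inv_mem ha)
          rw [mul_inv_cancel, hμ1, ha', one_mul] at h1
          exact h1.symm }
    have hle : ⁅R, zpowers x⁆ ≤ N := by
      rw [Subgroup.commutator_le]
      intro a ha y hy
      have hyS : y ∈ St := (zpowers_le.2 hxS) hy
      have hy' : y * a⁻¹ * y⁻¹ ∈ R := (mem_normalizer_iff.1 hyS.1 a⁻¹).1 (inv_mem ha)
      have h1 : ⁅a, y⁆ = a * (y * a⁻¹ * y⁻¹) := by rw [commutatorElement_def]; group
      rw [h1]
      refine ⟨mul_mem ha hy', ?_⟩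
      rw [hμm a ha _ hy', hyS.2 _ (inv_mem ha), ← hμm a ha _ (inv_mem ha), mul_inv_cancel, hμ1]
    rw [hgen] at hle
    apply hr
    rw [← hμz]
    exact (hle hz).2
  obtain ⟨n, hn⟩ := hx
  have hNi : ∀ (i : ℕ) (a : G), a ∈ R → (x ^ i)⁻¹ * a * x ^ i ∈ R := by
    intro i a ha
    have h1 := (mem_normalizer_iff.1 (inv_mem (pow_mem hN i)) a).1 ha
    rwa [inv_inv] at h1
  have key : ∀ i j : ℕ, i < j → j < p → ∃ a ∈ R, μ ((x ^ i)⁻¹ * a * x ^ i) ≠ μ ((x ^ j)⁻¹ * a * x ^ j) := by
    intro i j hij hjp
    by_contra hcon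
    push Not at hcon
    apply hxSt
    have h1 : x ^ (j - i) ∈ St := by
      refine ⟨pow_mem hN _, fun b hb => ?_⟩
      have h2 := hcon (x ^ j * b * (x ^ j)⁻¹) ((mem_normalizer_iff.1 (pow_mem hN j) b).1 hb)
      have h3 : (x ^ j)⁻¹ * (x ^ j * b * (x ^ j)⁻¹) * x ^ j = b := by group
      have h4 : (x ^ i)⁻¹ * (x ^ j * b * (x ^ j)⁻¹) * x ^ i = x ^ (j - i) * b * (x ^ (j - i))⁻¹ := by
        have h5 : x ^ j = x ^ i * x ^ (j - i) := by rw [← pow_add]; congr 1; omega
        rw [h5]; group
      rw [h3, h4] at h2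
      exact h2
    have hcop : (orderOf x).Coprime (j - i) := by
      rw [hn]
      apply Nat.Coprime.pow_left
      rw [hp.coprime_iff_not_dvd]
      intro hdvd
      have := Nat.le_of_dvd (by omega) hdvd
      omega
    have h6 : x ∈ zpowers (x ^ (j - i)) := (mem_zpowers_pow_iff).2 hcop.symm
    exact (zpowers_le.2 h1) h6
  have h7 := le_finrank (fun a : R => ρ (a : G)) (fun a b => by
    show ρ a * ρ b = ρ b * ρ a
    rw [← map_mul, ← map_mul, hab a a.2 b b.2]) (n := p) (fun i => ρ (x ^ (i : ℕ)) u)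
    (fun i a => μ ((x ^ (i : ℕ))⁻¹ * a * x ^ (i : ℕ))) (by
      intro i j hij
      by_contra hne
      have hne' : (i : ℕ) ≠ j := fun h => hne (Fin.ext h)
      rcases lt_or_gt_of_ne hne' with h | h
      · obtain ⟨a, ha, h8⟩ := key i j h j.2
        exact h8 (congrFun hij ⟨a, ha⟩)
      · obtain ⟨a, ha, h8⟩ := key j i h i.2
        exact h8 (congrFun hij ⟨a, ha⟩).symm) (by
      intro i a
      show ρ (a : G) (ρ (x ^ (i : ℕ)) u) = μ ((x ^ (i : ℕ))⁻¹ * a * x ^ (i : ℕ)) • ρ (x ^ (i : ℕ)) u
      rw [← map_smul, ← hμ _ (hNi i a a.2), ← Module.End.mul_apply, ← Module.End.mul_apply, ← map_mul, ← map_mul]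
      congr 2
      group) (by
      intro i h
      apply hu0
      have h9 := congrArg (ρ (x ^ (i : ℕ))⁻¹) h
      rwa [map_zero, ← Module.End.mul_apply, ← map_mul, inv_mul_cancel, map_one, Module.End.one_apply] at h9)
  omega

omit [IsAlgClosed K] [Finite G] [FiniteDimensional K V] in
theorem mem_cen' {σ : G →* Module.End K V} {g : G} : g ∈ cen σ ↔ ∀ h, σ (g * h * g⁻¹ * h⁻¹) = 1 := by
  rw [mem_cen]
  refine forall_congr' fun h => ?_
  constructor
  · intro H
    have h1 : g * h * g⁻¹ * h⁻¹ = (g * h) * (h * g)⁻¹ := by group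
    rw [h1, map_mul, H, ← map_mul, mul_inv_cancel, map_one]
  · intro H
    have h1 : g * h = (g * h * g⁻¹ * h⁻¹) * (h * g) := by group
    rw [h1, map_mul, H, one_mul]

/-- the count of the fixed points of a `p`-element -/
theorem card_modEq (hp : p.Prime) (hx : ∃ n : ℕ, orderOf x = p ^ n) (hN : x ∈ normalizer (R : Set G)) :
    Nat.card R ≡ Nat.card ↥(centralizer ({x} : Set G) ⊓ R) [MOD p] := by
  classical
  have : Fact p.Prime := ⟨hp⟩
  obtain ⟨n, hn⟩ := hx
  have hle : zpowers x ≤ normalizer (R : Set G) := zpowers_le.2 hN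
  let act : MulAction (zpowers x) R :=
    MulAction.compHom R (R.normalizerMonoidHom.comp (Subgroup.inclusion hle))
  have hsm : ∀ (y : zpowers x) (a : R), ((y • a : R) : G) = y * a * (y : G)⁻¹ := fun _ _ => rfl
  have hpg : IsPGroup p (zpowers x) := by
    apply IsPGroup.of_card (n := n)
    rw [Nat.card_zpowers, hn]
  have h1 := hpg.card_modEq_card_fixedPoints R
  refine h1.trans ?_
  have h2 : Nat.card (MulAction.fixedPoints (zpowers x) R) = Nat.card ↥(centralizer ({x} : Set G) ⊓ R) := by
    refine Nat.card_congr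
      { toFun := fun a => ⟨a.1, ?_, a.1.2⟩
        invFun := fun a => ⟨⟨a.1, a.2.2⟩, ?_⟩
        left_inv := fun a => rfl
        right_inv := fun a => rfl }
    · show (a.1 : G) ∈ centralizer ({x} : Set G)
      rw [mem_centralizer_iff]
      intro y hy
      rw [Set.mem_singleton_iff.1 hy]
      have h3 := a.2 ⟨x, mem_zpowers x⟩
      have h4 : x * a.1 * x⁻¹ = a.1 := congrArg Subtype.val h3
      calc x * a.1 = x * a.1 * x⁻¹ * x := by group
        _ = a.1 * x := by rw [h4]
    · intro y
      apply Subtype.ext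
      rw [hsm]
      have h3 : x * a.1 = a.1 * x := mem_centralizer_iff.1 a.2.1 x rfl
      have h4 : (y : G) * a.1 = a.1 * y := by
        obtain ⟨k, hk⟩ := mem_zpowers_iff.1 y.2
        rw [← hk]
        exact ((show Commute x a.1 from h3).zpow_left k).eq
      show (y : G) * a.1 * (y : G)⁻¹ = a.1
      rw [h4, mul_assoc, mul_inv_cancel, mul_one]
  rw [h2]

omit [IsAlgClosed K] [FiniteDimensional K V] [Module K V] [Field K] [AddCommGroup V] in
/-- an `x`-invariant subgroup is normalised by `⟨x⟩` -/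
theorem norm_of_inv (S : Subgroup G) (hS : ∀ a ∈ S, x * a * x⁻¹ ∈ S) : zpowers x ≤ normalizer (S : Set G) := by
  rw [zpowers_le]
  have h1 : S.map (MulAut.conj x).toMonoidHom ≤ S := by
    rintro _ ⟨a, ha, rfl⟩
    exact hS a ha
  have h2 : S.map (MulAut.conj x).toMonoidHom = S := by
    apply Subgroup.eq_of_le_of_card_ge h1
    rw [Subgroup.card_map_of_injective (MulAut.conj x).injective]
  rw [mem_normalizer_iff]
  intro a
  constructor
  · exact hS a
  · intro ha
    have h3 : x * a * x⁻¹ ∈ S.map (MulAut.conj x).toMonoidHom := by rw [h2]; exact ha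
    obtain ⟨b, hb, hba⟩ := h3
    have h4 : x * b * x⁻¹ = x * a * x⁻¹ := hba
    have h5 : b = a := mul_left_cancel (mul_right_cancel h4)
    rwa [← h5]

/-- the special case -/
theorem sp_case {ρ : G →* Module.End K V} (hρ : Function.Injective ρ) (hp : p.Prime) (ht : t.Prime) (hpt : p ≠ t)
    (htK : (t : K) ≠ 0) (hR : IsPGroup t R) (hne : R ≠ ⊥) (hcom : _root_.commutator R = Subgroup.center R)
    (hx : ∃ n : ℕ, orderOf x = p ^ n) (hN : x ∈ normalizer (R : Set G)) (hd : finrank K V + 1 < p)
    (hgen : ⁅R, zpowers x⁆ = R) (hZx : ∀ z ∈ Subgroup.center R, x * (z : G) = z * x)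
    (hirrR : ∀ U : Subgroup G, (Subgroup.center R).map R.subtype ≤ U → U ≤ R → zpowers x ≤ normalizer (U : Set G) →
      U = (Subgroup.center R).map R.subtype ∨ U = R) : False := by
  classical
  have : Fact t.Prime := ⟨ht⟩
  have hntR : Nontrivial R := (Subgroup.nontrivial_iff_ne_bot R).2 hne
  have hZne : Nontrivial (Subgroup.center R) := hR.center_nontrivial
  obtain ⟨⟨z, hz⟩, hz1⟩ := exists_ne (1 : Subgroup.center R)
  have hz1' : z ≠ 1 := fun h => hz1 (Subtype.ext h)
  let σ : R →* Module.End K V := ρ.comp R.subtype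
  have hσi : Function.Injective σ := hρ.comp Subtype.val_injective
  have hRK : (Nat.card R : K) ≠ 0 := by
    obtain ⟨m, hm⟩ := IsPGroup.iff_card.1 hR
    rw [hm, Nat.cast_pow]
    exact pow_ne_zero _ htK
  obtain ⟨U, hU, hirr, r, hr, hru⟩ := exists_irr_scalar σ hz (fun h => hz1' (hσi (by rw [h, map_one]))) hRK
  let τ := restr σ U hU
  have hcl : ∀ a b : R, a * b * a⁻¹ * b⁻¹ ∈ Subgroup.center R := by
    intro a b
    rw [← hcom]
    exact Subgroup.commutator_mem_commutator (Subgroup.mem_top a) (Subgroup.mem_top b)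
  have hidx := index_cen hirr hcl hRK
  have hdU : finrank K U ≤ finrank K V := Submodule.finrank_le U
  have hconj : ∀ a ∈ R, x * a * x⁻¹ ∈ R := fun a ha => (mem_normalizer_iff.1 hN a).1 ha
  have hconj' : ∀ a ∈ R, x⁻¹ * a * x ∈ R := fun a ha => by
    have := (mem_normalizer_iff.1 (inv_mem hN) a).1 ha
    rwa [inv_inv] at this
  -- the elements central in the image
  have hD : cen τ = Subgroup.center R := by
    have hDinv : ∀ a ∈ (cen τ).map R.subtype, x * a * x⁻¹ ∈ (cen τ).map R.subtype := by
      rintro _ ⟨a, ha, rfl⟩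
      refine ⟨⟨x * a * x⁻¹, hconj a a.2⟩, ?_, rfl⟩
      rw [SetLike.mem_coe, mem_cen'] at ha ⊢
      intro h
      have h1 := ha ⟨x⁻¹ * h * x, hconj' h h.2⟩
      rw [← h1]
      congr 1
      have h2 := hZx _ (hcl a ⟨x⁻¹ * h * x, hconj' h h.2⟩)
      apply Subtype.ext
      show x * a * x⁻¹ * h * (x * a * x⁻¹)⁻¹ * (h : G)⁻¹ = a * (x⁻¹ * h * x) * (a : G)⁻¹ * (x⁻¹ * h * x)⁻¹
      have h3 : x * (a * (x⁻¹ * h * x) * (a : G)⁻¹ * (x⁻¹ * h * x)⁻¹) =
        (a * (x⁻¹ * h * x) * (a : G)⁻¹ * (x⁻¹ * h * x)⁻¹) * x := h2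
      calc x * a * x⁻¹ * h * (x * a * x⁻¹)⁻¹ * (h : G)⁻¹
          = x * (a * (x⁻¹ * h * x) * (a : G)⁻¹ * (x⁻¹ * h * x)⁻¹) * x⁻¹ := by group
        _ = _ := by rw [h3]; group
    have hDle : (Subgroup.center R).map R.subtype ≤ (cen τ).map R.subtype := by
      apply Subgroup.map_mono
      intro c hc
      rw [mem_cen]
      intro h
      rw [Subgroup.mem_center_iff.1 hc h]
    rcases hirrR _ hDle (Subgroup.map_subtype_le _) (norm_of_inv _ hDinv) with h | h
    · exact Subgroup.map_injective R.subtype_injective h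
    · exfalso
      have h1 : cen τ = ⊤ := by
        apply Subgroup.map_injective R.subtype_injective
        rw [h, ← MonoidHom.range_eq_map, Subgroup.range_subtype]
      have h2 : _root_.commutator R ≤ τ.toHomUnits.ker := by
        rw [_root_.commutator_def, Subgroup.commutator_le]
        intro a _ b _
        have h3 : a ∈ cen τ := by rw [h1]; exact Subgroup.mem_top a
        rw [MonoidHom.mem_ker]
        apply Units.ext
        exact mem_cen'.1 h3 b
      rw [hcom] at h2
      have h3 : τ z = 1 := congrArg Units.val (MonoidHom.mem_ker.1 (h2 hz))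
      have hnt := hirr.1
      obtain ⟨⟨u, huU⟩, hu0⟩ := exists_ne (0 : U)
      have hu0' : u ≠ 0 := fun h => hu0 (Subtype.ext h)
      have h4 : σ z u = u := congrArg Subtype.val (LinearMap.congr_fun h3 ⟨u, huU⟩)
      rw [hru u huU] at h4
      apply hr
      have h5 : (r - 1) • u = 0 := by rw [sub_smul, one_smul, h4, sub_self]
      exact sub_eq_zero.1 ((smul_eq_zero.1 h5).resolve_right hu0')
  -- the fixed points
  have hC : centralizer ({x} : Set G) ⊓ R = (Subgroup.center R).map R.subtype := by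
    have h1 : (Subgroup.center R).map R.subtype ≤ centralizer ({x} : Set G) ⊓ R := by
      rintro _ ⟨c, hc, rfl⟩
      refine ⟨?_, c.2⟩
      show (c : G) ∈ centralizer ({x} : Set G)
      rw [mem_centralizer_iff]
      intro y hy
      rw [Set.mem_singleton_iff.1 hy]
      exact hZx c hc
    rcases hirrR _ h1 inf_le_right (norm_of_inv _ fun a ha => by
      have h2 : x * a = a * x := mem_centralizer_iff.1 ha.1 x rfl
      have h3 : x * a * x⁻¹ = a := by rw [h2, mul_assoc, mul_inv_cancel, mul_one]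
      rw [h3]
      exact ha) with h | h
    · exact h
    · exfalso
      apply hne
      rw [← hgen, eq_bot_iff, Subgroup.commutator_le]
      intro a ha y hy
      rw [← h] at ha
      have h2 : x * a = a * x := mem_centralizer_iff.1 ha.1 x rfl
      obtain ⟨k, rfl⟩ := mem_zpowers_iff.1 hy
      have h3 := ((show Commute x a from h2).zpow_left k).eq
      rw [Subgroup.mem_bot, commutatorElement_eq_one_iff_mul_comm]
      exact h3.symm
  have hmod := card_modEq (R := R) hp hx hN
  rw [hC, Subgroup.card_map_of_injective R.subtype_injective, ← Subgroup.card_mul_index (Subgroup.center R), ← hD,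
    hidx, hD] at hmod
  set c := Nat.card (Subgroup.center R) with hc
  set d := finrank K U with hdd
  have hd0 : 0 < d := by
    have := hirr.1
    exact Module.finrank_pos
  have hcp : c.Coprime p := by
    obtain ⟨m, hm⟩ := IsPGroup.iff_card.1 (hR.to_subgroup (Subgroup.center R))
    rw [hc, hm]
    exact Nat.Coprime.pow_left _ ((Nat.coprime_primes ht hp).2 (Ne.symm hpt))
  have hdvd : p ∣ (d - 1) * (d + 1) := by
    have h1 : c * 1 ≡ c * (d * d) [MOD p] := by rw [mul_one]; exact hmod.symm
    have h2 : 1 ≡ d * d [MOD p] := Nat.ModEq.cancel_left_of_coprime (by rwa [Nat.gcd_comm]) h1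
    have h3 := (Nat.modEq_iff_dvd' (Nat.mul_pos hd0 hd0)).1 h2
    have h4 : (d - 1) * (d + 1) = d * d - 1 := by
      obtain ⟨e, he⟩ : ∃ e, d = e + 1 := ⟨d - 1, by omega⟩
      rw [he]
      simp only [Nat.add_sub_cancel]
      have : (e + 1) * (e + 1) = e * (e + 1 + 1) + 1 := by ring
      omega
    rwa [h4]
  have hd1 : d = 1 := by
    rcases (Nat.Prime.dvd_mul hp).1 hdvd with h | h
    · by_contra hcon
      have := Nat.le_of_dvd (by omega) h
      omega
    · have := Nat.le_of_dvd (by omega) h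
      omega
  rw [hD, hd1, mul_one, Subgroup.index_eq_one] at hidx
  have h5 : _root_.commutator R = ⊥ := (commutator_eq_bot_iff_center_eq_top R).2 hidx
  rw [hcom, hidx] at h5
  exact top_ne_bot h5

/-- the lemma over an algebraically closed field -/
theorem closed_main {ρ : G →* Module.End K V} (hρ : Function.Injective ρ) (hp : p.Prime) (ht : t.Prime) (hpt : p ≠ t)
    (htK : (t : K) ≠ 0) (hd : finrank K V + 1 < p) (hx : ∃ n : ℕ, orderOf x = p ^ n) :
    ∀ (n : ℕ) (R : Subgroup G), Nat.card R = n → IsPGroup t R → x ∈ normalizer (R : Set G) → ∀ a ∈ R, x * a = a * x := by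
  classical
  have : Fact t.Prime := ⟨ht⟩
  intro n
  induction n using Nat.strong_induction_on with
  | _ n ih =>
    intro R hRn hR hN
    by_contra hcon
    have hAc : (Nat.card (zpowers x)).Coprime t := by
      obtain ⟨m, hm⟩ := hx
      rw [Nat.card_zpowers, hm]
      exact Nat.Coprime.pow_left _ ((Nat.coprime_primes hp ht).2 hpt)
    have hbot : ∀ U : Subgroup G, (∀ a ∈ U, x * a = a * x) → ⁅U, zpowers x⁆ = ⊥ := by
      intro U hU
      rw [eq_bot_iff, Subgroup.commutator_le]
      intro a ha y hy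
      obtain ⟨k, rfl⟩ := mem_zpowers_iff.1 hy
      have h3 := ((show Commute x a from hU a ha).zpow_left k).eq
      rw [Subgroup.mem_bot, commutatorElement_eq_one_iff_mul_comm]
      exact h3.symm
    have hlt : ∀ U : Subgroup G, U < R → zpowers x ≤ normalizer (U : Set G) → ∀ a ∈ U, x * a = a * x := by
      intro U hU hUN
      refine ih (Nat.card U) ?_ U rfl (hR.to_le hU.le) (hUN (mem_zpowers x))
      rw [← hRn]
      exact Set.ncard_lt_ncard hU (Set.toFinite _)
    have hnt : ⁅R, zpowers x⁆ ≠ ⊥ := by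
      intro h
      apply hcon
      intro a ha
      have h1 : ⁅a, x⁆ ∈ ⁅R, zpowers x⁆ := Subgroup.commutator_mem_commutator ha (mem_zpowers x)
      rw [h, Subgroup.mem_bot, commutatorElement_eq_one_iff_mul_comm] at h1
      exact h1.symm
    obtain ⟨h1, h2, h3, -⟩ := Cfsg.Agent.S3736.result (p := t) (zpowers x) (zpowers x) R hR (zpowers_le.2 hN) le_rfl
      (Subgroup.le_normalizer) hAc hnt (fun U hU hUN => hbot U (hlt U hU hUN))
    have hRne : R ≠ ⊥ := fun h => hnt (by rw [h1, h])
    rcases h2 with h2 | h2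
    · apply hRne
      refine ab_case hρ hp ht htK hR ?_ hx hN (by omega) h1
      intro a ha b hb
      exact congrArg Subtype.val (h2.1.1.1 (⟨a, ha⟩ : R) ⟨b, hb⟩)
    · rw [h2.2.1] at h3
      have hntR : Nontrivial R := (Subgroup.nontrivial_iff_ne_bot R).2 hRne
      have hcne : Subgroup.center R ≠ ⊤ := by
        intro h
        have h5 : _root_.commutator R = ⊥ := (commutator_eq_bot_iff_center_eq_top R).2 h
        rw [h2.2.2, h] at h5
        exact top_ne_bot h5
      have hZN : zpowers x ≤ normalizer (((Subgroup.center R).map R.subtype : Subgroup G) : Set G) := by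
        refine norm_of_inv _ ?_
        rintro _ ⟨c, hc, rfl⟩
        have hc' := Subgroup.mem_center_iff.1 hc
        refine ⟨⟨x * c * x⁻¹, (mem_normalizer_iff.1 hN c).1 c.2⟩, ?_, rfl⟩
        rw [SetLike.mem_coe, Subgroup.mem_center_iff]
        intro h
        have h4 : x⁻¹ * (h : G) * x ∈ R := by
          have := (mem_normalizer_iff.1 (inv_mem hN) (h : G)).1 h.2
          rwa [inv_inv] at this
        have h5 : x⁻¹ * (h : G) * x * c = c * (x⁻¹ * (h : G) * x) := congrArg Subtype.val (hc' ⟨_, h4⟩)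
        apply Subtype.ext
        show (h : G) * (x * c * x⁻¹) = x * c * x⁻¹ * h
        calc (h : G) * (x * c * x⁻¹) = x * (x⁻¹ * (h : G) * x * c) * x⁻¹ := by group
          _ = x * c * x⁻¹ * h := by rw [h5]; group
      have hZlt : (Subgroup.center R).map R.subtype < R := by
        refine lt_of_le_of_ne (Subgroup.map_subtype_le _) fun h => hcne ?_
        apply Subgroup.map_injective R.subtype_injective
        rw [h, ← MonoidHom.range_eq_map, Subgroup.range_subtype]
      exact sp_case hρ hp ht hpt htK hR hRne h2.2.2 hx hN hd h1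
        (fun z hz => hlt _ hZlt hZN _ ⟨z, hz, rfl⟩) h3

end Group

/-- **A Hall-Higman type lemma** : in a faithful representation of degree `< p - 1` over a field `F` of characteristic
different from `t`, a `p`-element centralises every `t`-group which it normalises (`t ≠ p`). -/
theorem commute_of_finrank {F : Type*} [Field F] {V : Type*} [AddCommGroup V] [Module F V] [FiniteDimensional F V]
    {G : Type*} [Group G] [Finite G] (ρ : G →* Module.End F V) (hρ : Function.Injective ρ) {p t : ℕ} (hp : p.Prime)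
    (ht : t.Prime) (hpt : p ≠ t) (htF : (t : F) ≠ 0) (hd : finrank F V + 1 < p) {R : Subgroup G} (hR : IsPGroup t R)
    {x : G} (hx : ∃ n : ℕ, orderOf x = p ^ n) (hN : ∀ a ∈ R, x * a * x⁻¹ ∈ R) : ∀ a ∈ R, x * a = a * x := by
  let L := AlgebraicClosure F
  let bc : Module.End F V → Module.End L (TensorProduct F L V) := fun a => a.baseChange L
  have hbc1 : bc 1 = 1 := LinearMap.baseChange_id
  have hbcm : ∀ a b, bc (a * b) = bc a * bc b := fun a b => LinearMap.baseChange_comp _ _
  let ρL : G →* Module.End L (TensorProduct F L V) :=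
    { toFun := fun x => bc (ρ x)
      map_one' := by rw [map_one]; exact hbc1
      map_mul' := by intro x y; rw [map_mul]; exact hbcm _ _ }
  have hρLapp : ∀ x (l : L) (v : V), ρL x (l ⊗ₜ[F] v) = l ⊗ₜ[F] (ρ x v) := fun _ _ _ => rfl
  have hinj : Function.Injective (fun v : V => (1 : L) ⊗ₜ[F] v) :=
    Module.FaithfullyFlat.tensorProduct_mk_injective (A := F) (B := L) V
  have hρL : Function.Injective ρL := by
    intro a b hab
    apply hρ
    ext v
    apply hinj
    show (1 : L) ⊗ₜ[F] (ρ a v) = (1 : L) ⊗ₜ[F] (ρ b v)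
    rw [← hρLapp, ← hρLapp, hab]
  have htL : (t : L) ≠ 0 := by
    intro h; apply htF
    apply (algebraMap F L).injective
    rw [map_natCast, map_zero]; exact h
  have hfr : finrank L (TensorProduct F L V) = finrank F V := Module.finrank_baseChange
  exact closed_main hρL hp ht hpt htL (by rw [hfr]; exact hd) hx (Nat.card R) R rfl hR
    (norm_of_inv R hN (mem_zpowers x))

/-- the interface of helper301 -/
theorem hh : Cfsg.Agent.H301.SY.HH := by
  intro k V G _ _ _ _ _ _ ρ hρ p t hp ht hpt _ htk hd R hR x hx hN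
  exact commute_of_finrank ρ hρ hp ht hpt htk hd hR hx hN

end Cfsg.Agent.H333.HallHig
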