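import Mathlib
import Cfsg.Agent.H163.E6.Defs
import Cfsg.Agent.H952.F4.Inv

/-!
# S5927: the group `Zgrp F` and the cubic form (helper333)

* `N_act`, `tf_act`, `sh_act`, `cr_act` (and for the dual module), for every field;
* `ev_dual`, `inv_bot`, `inv_bot'`, `exists_graph`, `ad_eq_one_iff`.
-/

set_option autoImplicit false
set_option linter.unusedSectionVars false

namespace Cfsg.Agent.H163.E6.Act

open Cfsg Cfsg.Lie Module
open Cfsg.Agent.ChevalleyStructure.E6Min.Tables Cfsg.Agent.ChevalleyStructure.E6Min.Basic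
  Cfsg.Agent.ChevalleyStructure.E6Min.Adjoint Cfsg.Agent.ChevalleyStructure.E6Min.Checks
  Cfsg.Agent.ChevalleyStructure.E6Min.Checks2
open Cfsg.Agent.H184.GraphE6 (gU gU_mul gU_gU dual dual_dual coe_dual PU PU_sq dual_PU coe_PU PM PM_apply PM_mulVec pi pi_pi
  dual_mem_Zgrp PM_sq PM_transpose)
open Cfsg.Agent.H952.F4 (ev es matRep sh cr tf)
open Cfsg.Agent.H952.F4.Inv (cubicT_add tf_nondeg tf_eq_sum tf_symm sw sh_smul tf_smul_left cubicT_smul tf_add_left)
open scoped Matrix

universe u

/-! ### conjugation with `P` -/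

/-- the code of `pi` -/
def piN (j : ℕ) : ℕ :=
  (if j / 9 = 0 then 0 else if j / 9 = 1 then 2 else 1) * 9 + (j % 9 % 3) * 3 + j % 9 / 3

/-- the image of the root `r` under the graph automorphism and the sign: `P N_r P = ε N_r'` -/
def gtab : List (ℕ × ℤ) := [(71, -1), (70, -1), (69, -1), (66, 1), (55, 1), (68, 1), (65, -1), (54, -1), (63, -1), (52, -1),
  (49, 1), (60, -1), (45, -1), (41, -1), (38, 1), (36, 1), (67, 1), (64, -1), (53, -1), (62, -1),
  (51, -1), (48, 1), (61, 1), (50, 1), (47, -1), (46, -1), (59, -1), (44, -1), (40, -1), (37, 1),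
  (58, -1), (43, -1), (39, -1), (57, 1), (42, 1), (56, 1), (15, 1), (29, 1), (14, 1), (32, -1),
  (28, -1), (13, -1), (34, 1), (31, -1), (27, -1), (12, -1), (25, -1), (24, -1), (21, 1), (10, 1),
  (23, 1), (20, -1), (9, -1), (18, -1), (7, -1), (4, 1), (35, 1), (33, 1), (30, -1), (26, -1),
  (11, -1), (22, 1), (19, -1), (8, -1), (17, -1), (6, -1), (3, 1), (16, 1), (5, 1), (2, -1),
  (1, -1), (0, -1)]

theorem code_pi (x : I27) : code (pi x) = piN (code x) := by revert x; decide

theorem gtab_all : allLt 72 (fun r => Nat.blt (gtab.getD r (0, 0)).1 72 && allLt 27 fun j =>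
    (sgN r (piN j) == (gtab.getD r (0, 0)).2 * sgN (gtab.getD r (0, 0)).1 j) &&
      ((sgN (gtab.getD r (0, 0)).1 j == 0) || (piN (srN r (piN j)) == srN (gtab.getD r (0, 0)).1 j))) = true := by
  decide +kernel

section ring

variable {R : Type*} [CommRing R]

theorem PM_Nm_PM {r : ℕ} (hr : r < 72) : (gtab.getD r (0, 0)).1 < 72 ∧
    PM R * Nm R r * PM R = (((gtab.getD r (0, 0)).2 : ℤ) : R) • Nm R (gtab.getD r (0, 0)).1 := by
  have h := allLt_spec gtab_all r hr
  rw [Bool.and_eq_true, Nat.blt_eq] at h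
  refine ⟨h.1, ?_⟩
  ext x y
  have h2 := allLt_spec h.2 _ (code_lt x)
  rw [Bool.and_eq_true, beq_iff_eq, Bool.or_eq_true, beq_iff_eq, beq_iff_eq] at h2
  have e1 : (PM R * Nm R r * PM R) x y = Nm R r (pi x) (pi y) := by
    rw [Matrix.mul_apply]
    have e2 : ∀ z, (PM R * Nm R r) x z = Nm R r (pi x) z := by
      intro z
      rw [Matrix.mul_apply]
      simp only [PM_apply, ite_mul, one_mul, zero_mul, Finset.sum_ite_eq', Finset.mem_univ, if_true]
    simp only [e2, PM_apply]
    have e3 : ∀ z, (if y = pi z then (1 : R) else 0) = if z = pi y then 1 else 0 := by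
      intro z
      congr 1
      apply propext
      constructor
      · rintro rfl; rw [pi_pi]
      · rintro rfl; rw [pi_pi]
    simp only [e3, mul_ite, mul_one, mul_zero, Finset.sum_ite_eq', Finset.mem_univ, if_true]
  rw [e1, Matrix.smul_apply, Nm_apply, Nm_apply, smul_eq_mul]
  have e4 : sg r (pi x) = (gtab.getD r (0, 0)).2 * sg (gtab.getD r (0, 0)).1 x := by
    unfold sg
    rw [code_pi]
    exact h2.1
  have e5 : sg (gtab.getD r (0, 0)).1 x = 0 ∨ pi (sr r (pi x)) = sr (gtab.getD r (0, 0)).1 x := by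
    rcases h2.2 with h3 | h3
    · exact Or.inl h3
    · right
      have h4 : code (pi (sr r (pi x))) = code (sr (gtab.getD r (0, 0)).1 x) := by
        rw [code_pi, code_sr hr, code_pi, code_sr h.1]
        exact h3
      rw [← dec_code (pi (sr r (pi x))), h4, dec_code]
  rw [e4]
  rcases e5 with e5 | e5
  · rw [e5]
    simp
  · rw [← e5]
    have e6 : (pi y = sr r (pi x)) ↔ (y = pi (sr r (pi x))) := by
      constructor
      · intro h; rw [← h, pi_pi]
      · intro h; rw [h, pi_pi]
    by_cases h5 : y = pi (sr r (pi x))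
    · rw [if_pos h5, if_pos (e6.2 h5)]
      push_cast
      rfl
    · rw [if_neg h5, if_neg fun h => h5 (e6.1 h), mul_zero]

theorem PM_zM_PM {r : ℕ} (hr : r < 72) (t : R) :
    PM R * zM r t * PM R = zM (gtab.getD r (0, 0)).1 ((((gtab.getD r (0, 0)).2 : ℤ) : R) * t) := by
  rw [zM_def, zM_def, mul_add, add_mul, mul_one, PM_sq, mul_smul_comm, smul_mul_assoc, (PM_Nm_PM hr).2, smul_smul, mul_comm t]

theorem PU_conj_mem {g : GL I27 R} (hg : g ∈ Zgrp R) : PU R * g * PU R ∈ Zgrp R := by
  have h1 : ∀ a b : GL I27 R, PU R * (a * b) * PU R = (PU R * a * PU R) * (PU R * b * PU R) := by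
    intro a b
    calc PU R * (a * b) * PU R = PU R * a * 1 * b * PU R := by group
      _ = _ := by rw [← PU_sq (F := R)]; group
  unfold Zgrp at hg
  induction hg using Subgroup.closure_induction with
  | mem x hx =>
    obtain ⟨r, t, hr, hx⟩ := hx
    refine Subgroup.subset_closure ⟨(gtab.getD r (0, 0)).1, (((gtab.getD r (0, 0)).2 : ℤ) : R) * t, (PM_Nm_PM (R := R) hr).1, ?_⟩
    rw [← PM_zM_PM hr, ← hx]
    rfl
  | one => rw [mul_one, PU_sq]; exact one_mem _
  | mul a b _ _ ha hb => rw [h1]; exact mul_mem ha hb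
  | inv a _ ha =>
    have h2 : PU R * a⁻¹ * PU R = (PU R * a * PU R)⁻¹ := by
      have h3 : (PU R)⁻¹ = PU R := inv_eq_of_mul_eq_one_right PU_sq
      rw [mul_inv_rev, mul_inv_rev, h3, mul_assoc]
    rw [h2]
    exact inv_mem ha

theorem gU_mem {R : Type*} [Field R] {g : GL I27 R} (hg : g ∈ Zgrp R) : gU g ∈ Zgrp R := PU_conj_mem (dual_mem_Zgrp hg)

end ring

/-! ### naturality -/

section nat

variable {R S : Type*} [CommRing R] [CommRing S] (f : R →+* S)

theorem mat3_map (x : I27 → R) (k : Fin 3) : mat3 (fun i => f (x i)) k = (mat3 x k).map f := rfl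

theorem map_mul_map (A B : Matrix (Fin 3) (Fin 3) R) : A.map f * B.map f = (A * B).map f := by
  ext i j
  simp [Matrix.mul_apply]

theorem cubicT_map (x : I27 → R) : cubicT (fun i => f (x i)) = f (cubicT x) := by
  unfold cubicT
  simp only [mat3_map, map_mul_map]
  rw [← RingHom.mapMatrix_apply, ← RingHom.mapMatrix_apply, ← RingHom.mapMatrix_apply, ← RingHom.map_det, ← RingHom.map_det,
    ← RingHom.map_det]
  simp only [map_add, map_sub]
  congr 1
  simp only [Matrix.trace, Matrix.diag, Matrix.map_apply, map_sum]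

theorem tf_map (x y : I27 → R) : tf (fun i => f (x i)) (fun i => f (y i)) = f (tf x y) := by
  rw [tf_eq_sum, tf_eq_sum, map_sum]
  simp only [map_mul]

theorem sh_map (x : I27 → R) : sh (fun i => f (x i)) = fun i => f (sh x i) := by
  have h1 : ∀ A : Matrix (Fin 3) (Fin 3) R, (A.map f).adjugate = A.adjugate.map f := by
    intro A
    rw [← RingHom.mapMatrix_apply, ← RingHom.mapMatrix_apply, RingHom.map_adjugate]
  funext i
  unfold Cfsg.Agent.H952.F4.sh Cfsg.Agent.H952.F4.ofM
  simp only [mat3_map, map_mul_map, h1]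
  split_ifs <;> simp only [Matrix.sub_apply, Matrix.map_apply, map_sub]

end nat

/-! ### the adjoint -/

section adj

variable {R : Type*} [CommRing R]

theorem cubicT_line (x y : I27 → R) :
    cubicT (fun i => Polynomial.C (x i) + Polynomial.X * Polynomial.C (y i)) =
      Polynomial.C (cubicT x) + Polynomial.X * Polynomial.C (tf (sh x) y) +
        Polynomial.X ^ 2 * Polynomial.C (tf x (sh y)) + Polynomial.X ^ 3 * Polynomial.C (cubicT y) := by
  have h1 : (fun i => Polynomial.C (x i) + Polynomial.X * Polynomial.C (y i)) =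
      (fun i => Polynomial.C (x i)) + (Polynomial.X : Polynomial R) • (fun i => Polynomial.C (y i)) := rfl
  rw [h1, cubicT_add, sh_smul, cubicT_smul, tf_symm _ (_ • _), tf_smul_left, tf_symm _ (_ • _), tf_smul_left, cubicT_map,
    cubicT_map, sh_map, sh_map, tf_map, tf_map, tf_symm y, tf_symm (sh y)]

theorem coeff_one_line (a b c d : R) : (Polynomial.C a + Polynomial.X * Polynomial.C b + Polynomial.X ^ 2 * Polynomial.C c +
    Polynomial.X ^ 3 * Polynomial.C d : Polynomial R).coeff 1 = b := by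
  simp [Polynomial.coeff_C]

theorem tf_sh_zM {r : ℕ} (hr : r < 72) (t : R) (x y : I27 → R) :
    tf (sh (zM r t *ᵥ x)) (zM r t *ᵥ y) = tf (sh x) y := by
  have h1 : zM r (Polynomial.C t) *ᵥ (fun i => Polynomial.C (x i) + Polynomial.X * Polynomial.C (y i)) =
      fun i => Polynomial.C ((zM r t *ᵥ x) i) + Polynomial.X * Polynomial.C ((zM r t *ᵥ y) i) := by
    funext i
    rw [zM_mulVec, zM_mulVec, zM_mulVec]
    simp only [map_add, map_mul, map_intCast]
    ring
  have h2 := Cfsg.Agent.ChevalleyStructure.E6Min.Inv.cubicT_zM hr (Polynomial.C t)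
    (fun i => Polynomial.C (x i) + Polynomial.X * Polynomial.C (y i))
  rw [h1, cubicT_line, cubicT_line] at h2
  have h3 := congrArg (fun p => Polynomial.coeff p 1) h2
  simpa only [coeff_one_line] using h3

end adj

section group

variable {F : Type u} [Field F]

theorem tf_sh_of_mem {g : GL I27 F} (hg : g ∈ Zgrp F) : ∀ x y : I27 → F,
    tf (sh ((g : Matrix I27 I27 F) *ᵥ x)) ((g : Matrix I27 I27 F) *ᵥ y) = tf (sh x) y := by
  unfold Zgrp at hg
  induction hg using Subgroup.closure_induction with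
  | mem g hg =>
    obtain ⟨r, t, hr, h⟩ := hg
    intro x y
    rw [h]
    exact tf_sh_zM hr t x y
  | one =>
    intro x y
    rw [Units.val_one, Matrix.one_mulVec, Matrix.one_mulVec]
  | mul a b _ _ ha hb =>
    intro x y
    rw [Units.val_mul, ← Matrix.mulVec_mulVec, ← Matrix.mulVec_mulVec, ha, hb]
  | inv a _ ha =>
    intro x y
    rw [← ha, Matrix.mulVec_mulVec, Matrix.mulVec_mulVec, ← Units.val_mul, mul_inv_cancel, Units.val_one,
      Matrix.one_mulVec, Matrix.one_mulVec]

theorem sw_eq (i : I27) : sw i = pi i := by revert i; decide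

theorem tf_eq_dot (x y : I27 → F) : tf x y = x ⬝ᵥ (PM F *ᵥ y) := by
  rw [tf_eq_sum]
  simp only [dotProduct, PM_mulVec, sw_eq]

theorem coe_gU (g : GL I27 F) : ((gU g : GL I27 F) : Matrix I27 I27 F) =
    PM F * ((g⁻¹ : GL I27 F) : Matrix I27 I27 F)ᵀ * PM F := rfl

/-- the element `gU g` of the group -/
noncomputable def gz (g : ↥(Zgrp F)) : ↥(Zgrp F) := ⟨gU g, gU_mem g.2⟩

theorem gz_gz (g : ↥(Zgrp F)) : gz (gz g) = g := Subtype.ext (gU_gU _)

theorem gz_mul (g h : ↥(Zgrp F)) : gz (g * h) = gz g * gz h := Subtype.ext (gU_mul _ _)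

theorem V_gz (g : ↥(Zgrp F)) : V F (gz g) = V' F g := rfl

theorem V'_gz (g : ↥(Zgrp F)) : V' F (gz g) = V F g := by
  rw [← V_gz, gz_gz]

theorem V_inv_apply (g : ↥(Zgrp F)) (x : I27 → F) : V F g⁻¹ (V F g x) = x := by
  rw [← Module.End.mul_apply, ← map_mul, inv_mul_cancel, map_one, Module.End.one_apply]

theorem V_apply_inv (g : ↥(Zgrp F)) (x : I27 → F) : V F g (V F g⁻¹ x) = x := by
  rw [← Module.End.mul_apply, ← map_mul, mul_inv_cancel, map_one, Module.End.one_apply]

/-- the cubic form is invariant -/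
theorem N_act (g : ↥(Zgrp F)) (x : I27 → F) : cubicT (V F g x) = cubicT x :=
  Cfsg.Agent.ChevalleyStructure.E6Min.Inv.Zgrp_le F g.2 x

theorem N_act' (g : ↥(Zgrp F)) (x : I27 → F) : cubicT (V' F g x) = cubicT x := N_act (gz g) x

theorem tf_act (g : ↥(Zgrp F)) (x y : I27 → F) : tf (V F g x) (V' F g y) = tf x y := by
  rw [tf_eq_dot, tf_eq_dot, V_apply, V'_apply, coe_gU, Matrix.mulVec_mulVec, ← mul_assoc, ← mul_assoc, PM_sq, one_mul,
    ← Matrix.mulVec_mulVec, Matrix.dotProduct_mulVec, Matrix.vecMul_transpose, Matrix.mulVec_mulVec, ← Units.val_mul,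
    inv_mul_cancel, Units.val_one, Matrix.one_mulVec]

theorem sh_act (g : ↥(Zgrp F)) (x : I27 → F) : sh (V F g x) = V' F g (sh x) := by
  rw [← sub_eq_zero]
  apply tf_nondeg
  intro y
  obtain ⟨z, rfl⟩ : ∃ z, V F g z = y := ⟨V F g⁻¹ y, V_apply_inv g y⟩
  rw [sub_eq_add_neg, tf_add_left, ← neg_one_smul F, tf_smul_left]
  have h1 : tf (sh (V F g x)) (V F g z) = tf (sh x) z := tf_sh_of_mem g.2 x z
  have h2 := tf_act g z (sh x)
  rw [tf_symm, tf_symm z] at h2
  rw [h1, h2]
  ring

theorem sh_act' (g : ↥(Zgrp F)) (x : I27 → F) : sh (V' F g x) = V F g (sh x) := by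
  rw [← V_gz, sh_act, V'_gz]

theorem cr_act (g : ↥(Zgrp F)) (x y : I27 → F) : cr (V F g x) (V F g y) = V' F g (cr x y) := by
  unfold Cfsg.Agent.H952.F4.cr
  rw [← map_add, sh_act, sh_act, sh_act, map_sub, map_sub]

theorem cr_act' (g : ↥(Zgrp F)) (x y : I27 → F) : cr (V' F g x) (V' F g y) = V F g (cr x y) := by
  rw [← V_gz, cr_act, V'_gz]

/-- `gU g` and `g` : eigenspaces -/
theorem ev_dual (g : ↥(Zgrp F)) {μ : F} (hμ : μ ≠ 0) : ev (V' F g) μ = ev (V F g) μ⁻¹ := by
  have hk : ∀ (A : Matrix I27 I27 F) (c : F), ev (Matrix.toLin' A) c = Fintype.card I27 - (A - c • 1).rank := by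
    intro A c
    have h1 : Module.End.eigenspace (Matrix.toLin' A) c = LinearMap.ker (Matrix.toLin' (A - c • 1)) := by
      rw [Module.End.eigenspace_def, map_sub, map_smul, Matrix.toLin'_one]
      rfl
    have h2 := LinearMap.finrank_range_add_finrank_ker (Matrix.toLin' (A - c • 1))
    rw [Module.finrank_fintype_fun_eq_card] at h2
    unfold Cfsg.Agent.H952.F4.ev
    rw [h1, Matrix.rank_eq_finrank_range_toLin _ (Pi.basisFun F I27) (Pi.basisFun F I27), Matrix.toLin_eq_toLin']
    omega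
  have e1 : ev (V' F g) μ = ev (Matrix.toLin' ((gU (g : GL I27 F) : GL I27 F) : Matrix I27 I27 F)) μ := rfl
  have e2 : ev (V F g) μ⁻¹ = ev (Matrix.toLin' ((g : GL I27 F) : Matrix I27 I27 F)) μ⁻¹ := rfl
  rw [e1, e2, hk, hk]
  congr 1
  have e3 : ((gU (g : GL I27 F) : GL I27 F) : Matrix I27 I27 F) - μ • 1 =
      ((PU F : GL I27 F) : Matrix I27 I27 F) * ((((g⁻¹ : ↥(Zgrp F)) : GL I27 F) : Matrix I27 I27 F) - μ • 1)ᵀ *
        ((PU F : GL I27 F) : Matrix I27 I27 F) := by
    rw [coe_gU, coe_PU, Matrix.transpose_sub, mul_sub, sub_mul, Matrix.transpose_smul, Matrix.transpose_one, mul_smul_comm,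
      smul_mul_assoc, mul_one, PM_sq]
    rfl
  have e4 : (((g⁻¹ : ↥(Zgrp F)) : GL I27 F) : Matrix I27 I27 F) - μ • 1 =
      (((((g⁻¹ : ↥(Zgrp F)) : GL I27 F) * (Units.map (algebraMap F (Matrix I27 I27 F)).toMonoidHom (Units.mk0 (-μ) (neg_ne_zero.2 hμ)))) :
        GL I27 F) : Matrix I27 I27 F) * (((g : GL I27 F) : Matrix I27 I27 F) - μ⁻¹ • 1) := by
    have e5 : (((Units.map (algebraMap F (Matrix I27 I27 F)).toMonoidHom (Units.mk0 (-μ) (neg_ne_zero.2 hμ))) : GL I27 F) :
        Matrix I27 I27 F) = (-μ) • (1 : Matrix I27 I27 F) := by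
      show algebraMap F (Matrix I27 I27 F) (-μ) = _
      rw [Algebra.algebraMap_eq_smul_one]
    have e6 : (((g⁻¹ : ↥(Zgrp F)) : GL I27 F) : Matrix I27 I27 F) * ((g : GL I27 F) : Matrix I27 I27 F) = 1 := by
      rw [← Units.val_mul, ← Subgroup.coe_mul, inv_mul_cancel]
      rfl
    rw [Units.val_mul, e5, mul_smul_comm, mul_one, smul_mul_assoc, mul_sub, e6, mul_smul_comm, mul_one, smul_sub, smul_smul,
      neg_mul, mul_inv_cancel₀ hμ]
    simp only [neg_smul, one_smul]
    abel
  have hu : ∀ u : GL I27 F, IsUnit ((u : Matrix I27 I27 F)).det := fun u =>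
    (Matrix.isUnit_iff_isUnit_det _).1 (Units.isUnit u)
  rw [e3, Matrix.rank_mul_eq_left_of_isUnit_det _ _ (hu _), Matrix.rank_mul_eq_right_of_isUnit_det _ _ (hu _),
    Matrix.rank_transpose, e4, Matrix.rank_mul_eq_right_of_isUnit_det _ _ (hu _)]

/-! ### invariants -/

theorem hit_all : allLt 27 (fun j => !(allLt 72 fun r => allLt 27 fun y => (sgN r y == 0) || !(srN r y == j))) = true := by
  decide +kernel

theorem exists_of_not_allLt {n : ℕ} {p : ℕ → Bool} (h : (!(allLt n p)) = true) : ∃ k < n, p k = false := by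
  by_contra hc
  push Not at hc
  have h1 : allLt n p = true := by
    clear h
    induction n with
    | zero => rfl
    | succ n ih =>
      have h2 : allLt (n + 1) p = (p n && allLt n p) := rfl
      rw [h2, ih fun k hk => hc k (by omega), Bool.and_true]
      cases h3 : p n
      · exact absurd h3 (hc n (by omega))
      · rfl
  rw [h1] at h
  exact Bool.noConfusion h

theorem exists_hit (j : I27) : ∃ r < 72, ∃ y : I27, sg r y ≠ 0 ∧ sr r y = j := by
  obtain ⟨r, hr, h1⟩ := exists_of_not_allLt (allLt_spec hit_all _ (code_lt j))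
  obtain ⟨y, hy, h2⟩ := exists_of_not_allLt (n := 27) (p := fun y => (sgN r y == 0) || !(srN r y == code j)) (by rw [h1]; rfl)
  rw [Bool.or_eq_false_iff, beq_eq_false_iff_ne, Bool.not_eq_false', beq_iff_eq] at h2
  refine ⟨r, hr, dec y, ?_, ?_⟩
  · unfold sg
    rw [code_dec hy]
    exact h2.1
  · unfold sr
    rw [code_dec hy, h2.2, dec_code]

theorem inv_bot : (V F).invariants = ⊥ := by
  rw [Submodule.eq_bot_iff]
  intro x hx
  rw [Representation.mem_invariants] at hx
  funext j
  obtain ⟨r, hr, y, h1, rfl⟩ := exists_hit j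
  have h2 := congrFun (hx ⟨zU r 1, zU_mem r 1⟩) y
  rw [V_apply] at h2
  have h3 : (((zU r (1 : F) : GL I27 F) : Matrix I27 I27 F) *ᵥ x) y = x y := h2
  rw [coe_zU hr, zM_mulVec, one_mul, add_eq_left] at h3
  have h4 : ((sg r y : ℤ) : F) ≠ 0 := by
    have h5 := sg_sq r y h1
    intro h6
    have h7 : (((sg r y * sg r y : ℤ)) : F) = 1 := by rw [h5, Int.cast_one]
    rw [Int.cast_mul, h6, zero_mul] at h7
    exact zero_ne_one h7
  exact (mul_eq_zero.1 h3).resolve_left h4

theorem inv_bot' : (V' F).invariants = ⊥ := by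
  rw [Submodule.eq_bot_iff]
  intro x hx
  rw [Representation.mem_invariants] at hx
  have h1 : x ∈ (V F).invariants := by
    rw [Representation.mem_invariants]
    intro g
    rw [← V'_gz]
    exact hx (gz g)
  rw [inv_bot, Submodule.mem_bot] at h1
  exact h1

/-! ### the graph automorphism -/

/-- `V'` through the graph automorphism: there is an automorphism of the Chevalley group exchanging `V` and `V'` -/
theorem exists_graph : ∃ (α : MulAut ↥(Zgrp F)) (β : MulAut ↥(chevE6.group F)),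
    (∀ g, ad F (α g) = β (ad F g)) ∧ (∀ g, V F (α g) = V' F g) ∧ (∀ g, V' F (α g) = V F g) := by
  let α : MulAut ↥(Zgrp F) :=
    { toFun := gz, invFun := gz, left_inv := gz_gz, right_inv := gz_gz, map_mul' := gz_mul }
  have hmap : (ad F).ker.map (α : ↥(Zgrp F) →* ↥(Zgrp F)) = (ad F).ker := by
    rw [ker_ad]
    ext z
    constructor
    · rintro ⟨y, hy, rfl⟩
      have hy' := Subgroup.mem_center_iff.1 hy
      rw [Subgroup.mem_center_iff]
      intro g
      have h1 := congrArg α (hy' (α.symm g))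
      rw [map_mul, map_mul, MulEquiv.apply_symm_apply] at h1
      exact h1
    · intro hz
      have hz' := Subgroup.mem_center_iff.1 hz
      refine ⟨α.symm z, ?_, MulEquiv.apply_symm_apply α z⟩
      show α.symm z ∈ Subgroup.center _
      rw [Subgroup.mem_center_iff]
      intro g
      have h1 := congrArg α.symm (hz' (α g))
      rw [map_mul, map_mul, MulEquiv.symm_apply_apply] at h1
      exact h1
  let e := QuotientGroup.quotientKerEquivOfSurjective (ad F) ad_surjective
  let q := QuotientGroup.congr (ad F).ker (ad F).ker α hmap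
  refine ⟨α, (e.symm.trans q).trans e, ?_, fun g => V_gz g, fun g => V'_gz g⟩
  intro g
  have h1 : e.symm (ad F g) = QuotientGroup.mk g := by
    rw [MulEquiv.symm_apply_eq]
    rfl
  show ad F (α g) = e (q (e.symm (ad F g)))
  rw [h1]
  rfl

/-! ### the kernel of `ad` -/

theorem sep_all : allLt 27 (fun j => allLt 27 fun k => (j == k) || !(allLt 72 fun r => indN r j == indN r k)) = true := by
  decide +kernel

theorem path_all : allLt 27 (fun j => (j == 0) || !(allLt 72 fun r => ((sgN r 0 == 0) || !(srN r 0 == j)) &&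
    allLt 72 fun s => (sgN r 0 == 0) || (sgN s (srN r 0) == 0) || !(srN s (srN r 0) == j))) = true := by
  decide +kernel

theorem cast_sg_ne {r : ℕ} {y : I27} (h1 : sg r y ≠ 0) : ((sg r y : ℤ) : F) ≠ 0 := by
  have h5 := sg_sq r y h1
  intro h6
  have h7 : (((sg r y * sg r y : ℤ)) : F) = 1 := by rw [h5, Int.cast_one]
  rw [Int.cast_mul, h6, zero_mul] at h7
  exact zero_ne_one h7

/-- a matrix commuting with all root vectors is scalar -/
theorem scalar_of_comm {M : Matrix I27 I27 F} (h : ∀ r < 72, M * Nm F r = Nm F r * M) : ∃ c : F, M = c • 1 := by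
  -- diagonal
  have hd : ∀ x y, x ≠ y → M x y = 0 := by
    intro x y hxy
    have h1 := allLt_spec (allLt_spec sep_all _ (code_lt x)) _ (code_lt y)
    rw [Bool.or_eq_true, beq_iff_eq] at h1
    rcases h1 with h1 | h1
    · exact absurd (by rw [← dec_code x, h1, dec_code]) hxy
    · obtain ⟨r, hr, h2⟩ := exists_of_not_allLt h1
      rw [beq_eq_false_iff_ne] at h2
      have h3 : M * (Nm F r * Nm F (71 - r)) = Nm F r * Nm F (71 - r) * M := by
        rw [← mul_assoc, h r hr, mul_assoc, h (71 - r) (by omega), ← mul_assoc]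
      rw [Nm_mul_opp hr] at h3
      have h4 := congrFun (congrFun h3 x) y
      rw [Matrix.mul_diagonal, Matrix.diagonal_mul] at h4
      have h5 : ∀ z, ind r z = 0 ∨ ind r z = 1 := by
        intro z
        by_cases h6 : sg r z = 0
        · exact Or.inl (ind_of_eq h6)
        · exact Or.inr (ind_of_ne h6)
      have h6 : ind r x ≠ ind r y := h2
      rcases h5 x with h7 | h7 <;> rcases h5 y with h8 | h8
      · exact absurd (h7.trans h8.symm) h6
      · rw [h7, h8] at h4; simpa using h4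
      · rw [h7, h8] at h4; simpa using h4.symm
      · exact absurd (h7.trans h8.symm) h6
  have hstep : ∀ r < 72, ∀ x, sg r x ≠ 0 → M x x = M (sr r x) (sr r x) := by
    intro r hr x hx
    have h1 := congrFun (congrFun (h r hr) x) (sr r x)
    rw [Nm_mul_apply, Matrix.mul_apply, Finset.sum_eq_single x] at h1
    · rw [Nm_apply, if_pos rfl] at h1
      have h2 : ((sg r x : ℤ) : F) * (M x x - M (sr r x) (sr r x)) = 0 := by linear_combination h1
      exact sub_eq_zero.1 ((mul_eq_zero.1 h2).resolve_left (cast_sg_ne hx))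
    · intro z _ hz
      rw [hd x z (Ne.symm hz), zero_mul]
    · intro h2
      exact absurd (Finset.mem_univ _) h2
  have hc : ∀ x, M x x = M (dec 0) (dec 0) := by
    intro x
    have h1 := allLt_spec path_all _ (code_lt x)
    rw [Bool.or_eq_true, beq_iff_eq] at h1
    have h0 : code (dec 0) = 0 := code_dec (by norm_num)
    rcases h1 with h1 | h1
    · rw [← dec_code x, h1]
    · obtain ⟨r, hr, h2⟩ := exists_of_not_allLt h1
      rw [Bool.and_eq_false_iff] at h2
      rcases h2 with h2 | h2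
      · rw [Bool.or_eq_false_iff, beq_eq_false_iff_ne, Bool.not_eq_false', beq_iff_eq] at h2
        have h3 : sg r (dec 0) ≠ 0 := by unfold sg; rw [h0]; exact h2.1
        have h4 : sr r (dec 0) = x := by unfold sr; rw [h0, h2.2, dec_code]
        rw [hstep r hr _ h3, h4]
      · obtain ⟨s, hs, h2⟩ := exists_of_not_allLt (n := 72) (by rw [h2]; rfl)
        simp only [Bool.or_eq_false_iff, beq_eq_false_iff_ne, Bool.not_eq_false', beq_iff_eq] at h2
        have h3 : sg r (dec 0) ≠ 0 := by unfold sg; rw [h0]; exact h2.1.1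
        have h4 : sg s (sr r (dec 0)) ≠ 0 := by rw [sg_sr hr, h0]; exact h2.1.2
        have h5 : sr s (sr r (dec 0)) = x := by rw [sr_sr hr, h0, h2.2, dec_code]
        rw [hstep r hr _ h3, hstep s hs _ h4, h5]
  refine ⟨M (dec 0) (dec 0), ?_⟩
  ext x y
  rw [Matrix.smul_apply, smul_eq_mul, Matrix.one_apply]
  by_cases hxy : x = y
  · rw [if_pos hxy, mul_one, ← hxy, hc x]
  · rw [if_neg hxy, mul_zero, hd x y hxy]

theorem cubicT_u0 : cubicT (Cfsg.Agent.H952.F4.u0 F) = 1 := by
  unfold cubicT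
  rw [Cfsg.Agent.H952.F4.Inv.mat3_u0_zero, Cfsg.Agent.H952.F4.Inv.mat3_u0_one, Cfsg.Agent.H952.F4.Inv.mat3_u0_two]
  simp

theorem coe_scal (c : Fˣ) : ((scal c : GL I27 F) : Matrix I27 I27 F) = (c : F) • 1 := by
  show algebraMap F (Matrix I27 I27 F) c = _
  rw [Algebra.algebraMap_eq_smul_one]

/-- the kernel of `ad` consists of the scalar matrices of order dividing 3 -/
theorem ad_eq_one_iff (g : ↥(Zgrp F)) : ad F g = 1 ↔ ∃ c : Fˣ, c ^ 3 = 1 ∧ (g : GL I27 F) = scal c := by
  constructor
  · intro hg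
    obtain ⟨c, hc⟩ := scalar_of_comm (M := ((g : GL I27 F) : Matrix I27 I27 F)) fun r hr =>
      comm_B_of_ker hg (Sum.inr ⟨r, hr⟩)
    have h1 := N_act g (Cfsg.Agent.H952.F4.u0 F)
    rw [V_apply, hc, Matrix.smul_mulVec, Matrix.one_mulVec, cubicT_smul, cubicT_u0, mul_one] at h1
    have hc0 : c ≠ 0 := by
      rintro rfl
      rw [zero_pow (by norm_num)] at h1
      exact zero_ne_one h1
    refine ⟨Units.mk0 c hc0, Units.ext (by simpa using h1), Units.ext ?_⟩
    rw [coe_scal]
    exact hc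
  · rintro ⟨c, -, hc⟩
    apply Subtype.ext
    apply Units.ext
    refine P_unique (g := (g : GL I27 F)) (ad_P g) ?_
    intro col
    have h4 : comb (fun row => (1 : Matrix chevE6.Idx chevE6.Idx F) row col) = B F col := by
      have := P_one (F := F) col
      rw [one_mul, mul_one] at this
      exact this.symm
    show _ = comb (fun row => (1 : Matrix chevE6.Idx chevE6.Idx F) row col) * _
    rw [h4, hc, coe_scal, smul_mul_assoc, mul_smul_comm, one_mul, mul_one]

end group

end Cfsg.Agent.H163.E6.Act
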