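import Cfsg.Agent.H319.One.Base
import Cfsg.Agent.H334.Star.Own
import Cfsg.Agent.ClassicalGeometry.PSL2Basic

/-!
# S4880: the own characteristic (helper333)
-/

set_option autoImplicit false
set_option linter.unusedSectionVars false

namespace Cfsg.Agent.H333.OwnOne

open Cfsg Cfsg.Agent.H319.One Cfsg.Agent.H794.DefRank

variable {p n : ℕ} [Fact p.Prime]

theorem not_notAb {S : Type*} [Group S] (h : Hyp p n S) : ¬ ∃ P : Sylow p S, ¬ IsMulCommutative (P : Subgroup S) := by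
  rintro ⟨P, hP⟩
  exact hP ⟨⟨fun a b => Subtype.ext (h.comm P P.isPGroup' a a.2 b b.2)⟩⟩

theorem noncomm {S : Type*} [Group S] [Finite S] [IsSimpleGroup S] (h : Hyp p n S) : ∃ a b : S, a * b ≠ b * a := by
  by_contra hno
  push Not at hno
  have hp : p.Prime := Fact.out
  let _ : CommGroup S := { (inferInstance : Group S) with mul_comm := hno }
  have h1 : (Nat.card S).Prime := IsSimpleGroup.prime_card
  have h2 : p ^ n ∣ Nat.card S := h.dvd
  have h3 : p ^ 2 ∣ Nat.card S := (pow_dvd_pow p h.two).trans h2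
  have h4 : p ∣ Nat.card S := (dvd_pow_self p two_ne_zero).trans h3
  rw [Nat.prime_dvd_prime_iff_eq hp h1] at h4
  rw [← h4] at h3
  have h5 := Nat.le_of_dvd hp.pos h3
  have h6 := hp.one_lt
  nlinarith

theorem card_psl_two {F : Type*} [Field F] [Fintype F] [CharP F p]
    (h : Hyp p n (Matrix.ProjectiveSpecialLinearGroup (Fin 2) F)) : Fintype.card F = p ^ n := by
  have hp : p.Prime := Fact.out
  obtain ⟨m, hp', hm⟩ := FiniteField.card F p
  have hfin : Finite (Matrix.ProjectiveSpecialLinearGroup (Fin 2) F) := Quotient.finite _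
  obtain ⟨P⟩ : Nonempty (Sylow p (Matrix.ProjectiveSpecialLinearGroup (Fin 2) F)) := inferInstance
  have h1 := h.card P
  rw [Sylow.card_eq_multiplicity] at h1
  have h2 := Nat.pow_right_injective hp.two_le h1
  have hcard := Cfsg.Agent.ClassicalGeometry.PSL2Basic.card_PSL2_gcd F
  rw [hm] at hcard ⊢
  congr 1
  rw [← h2]
  -- `|PSL| * d = q * (q ^ 2 - 1)`
  have hcop : p.Coprime ((p ^ (m : ℕ)) ^ 2 - 1) := by
    rw [Nat.Prime.coprime_iff_not_dvd hp]
    intro h3
    have h4 : p ∣ (p ^ (m : ℕ)) ^ 2 := (dvd_pow_self p m.2.ne').trans (dvd_pow_self _ two_ne_zero)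
    have h5 : 0 < (p ^ (m : ℕ)) ^ 2 := pow_pos (pow_pos hp.pos _) 2
    have h6 := Nat.dvd_sub h4 h3
    rw [show (p ^ (m : ℕ)) ^ 2 - ((p ^ (m : ℕ)) ^ 2 - 1) = 1 by omega] at h6
    exact hp.one_lt.ne' (Nat.dvd_one.1 h6)
  have hne : (p ^ (m : ℕ)) ^ 2 - 1 ≠ 0 := by
    intro h0
    rw [h0] at hcop
    exact hp.one_lt.ne' (Nat.coprime_zero_right _ |>.mp hcop)
  set N := Nat.card (Matrix.ProjectiveSpecialLinearGroup (Fin 2) F) with hN
  have hN0 : N ≠ 0 := Nat.card_pos.ne'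
  have hd : Nat.gcd 2 (p ^ (m : ℕ) - 1) ≠ 0 := by
    intro h0
    exact two_ne_zero (Nat.eq_zero_of_gcd_eq_zero_left h0)
  have hpd : ¬ p ∣ Nat.gcd 2 (p ^ (m : ℕ) - 1) := by
    intro h0
    have h3 := Nat.le_of_dvd (by norm_num) (h0.trans (Nat.gcd_dvd_left _ _))
    have := h.five
    omega
  have e1 := congrArg (fun k => k.factorization p) hcard
  rw [Nat.factorization_mul hN0 hd, Nat.factorization_mul (pow_pos hp.pos _).ne' hne, Finsupp.add_apply,
    Finsupp.add_apply, Nat.factorization_eq_zero_of_not_dvd hpd, add_zero, Nat.Prime.factorization_pow hp,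
    Finsupp.single_eq_same, Nat.factorization_eq_zero_of_not_dvd ((Nat.Prime.coprime_iff_not_dvd hp).mp hcop),
    add_zero] at e1
  exact e1.symm

/-- the characteristic from the order of the field -/
theorem charP_of_dvd {F : Type*} [Field F] [Fintype F] (h : p ∣ Fintype.card F) : CharP F p := by
  obtain ⟨r, hr⟩ := CharP.exists F
  obtain ⟨m, hr', hm⟩ := FiniteField.card F r
  rw [hm] at h
  have h1 : p = r := (Nat.prime_dvd_prime_iff_eq Fact.out hr').mp ((Fact.out : p.Prime).dvd_of_dvd_pow h)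
  rw [h1]
  exact hr

/-- **Own characteristic.** -/
theorem own {S : Type*} [Group S] [Finite S] [IsSimpleGroup S] (h : Hyp p n S) (hS : IsLieTypeChar p S) :
    ∃ (F : Type) (_ : Field F) (_ : Fintype F), Fintype.card F = p ^ n ∧
      Nonempty (S ≃* Matrix.ProjectiveSpecialLinearGroup (Fin 2) F) := by
  have h5 := h.five
  rcases rk2_or (by omega) hS with h1 | ⟨F, i1, i2, i3, -, ⟨e⟩⟩ | ⟨F, i1, i2, i3, q, hF, -, ⟨e⟩⟩ | ⟨h3, -⟩
  · exact (not_notAb h (Cfsg.Agent.H334.Star.notAb_of_rk2 (noncomm h) h1)).elim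
  · exact ⟨F, i1, i2, card_psl_two (h.congr e), ⟨e⟩⟩
  · exfalso
    have h2 : Cfsg.Agent.H800.Sp.NotAb p (PSU 3 F q) := Cfsg.Agent.H794.PsuNotAb.notAb hF le_rfl
    exact not_notAb (h.congr e) ⟨default, h2 _⟩
  · omega

end Cfsg.Agent.H333.OwnOne
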