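import Cfsg.Agent.H333.AltQuot

/-!
# The subgroup of `Perm (Fin 12)` and the Sylow subgroup
-/

set_option autoImplicit false

namespace Cfsg.Agent.H333.AltTrans

open Equiv Cfsg.Agent.H333.AltModel

/-- the involution of the statement -/
def a0 : Perm (Fin 12) :=
  (Equiv.swap (0 : Fin 12) 1 * Equiv.swap (2 : Fin 12) 3 * Equiv.swap (4 : Fin 12) 5 * Equiv.swap (6 : Fin 12) 7 * Equiv.swap (8 : Fin 12) 9 * Equiv.swap (10 : Fin 12) 11)

/-- the subgroup of the statement -/
def C0 : Subgroup (Perm (Fin 12)) := alternatingGroup (Fin 12) ⊓ Subgroup.centralizer {a0}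

/-- points -/
def pt : Fin 12 ≃ Pt := (finProdFinEquiv (m := 6) (n := 2)).symm

/-- the transport -/
def T : Perm (Fin 12) ≃* Perm Pt := Equiv.permCongrHom pt

theorem T_apply (g : Perm (Fin 12)) (p : Pt) : T g p = pt (g (pt.symm p)) := rfl

theorem T_a0 : T a0 = a := by
  ext1 p
  revert p
  decide +kernel

theorem sign_T (g : Perm (Fin 12)) : Perm.sign (T g) = Perm.sign g := Perm.sign_permCongr pt g

theorem map_T : C0.map T.toMonoidHom = X := by
  ext x
  constructor
  · rintro ⟨g, hg, rfl⟩
    obtain ⟨h1, h2⟩ := Subgroup.mem_inf.1 hg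
    rw [Subgroup.mem_centralizer_singleton_iff] at h2
    refine ⟨?_, ?_⟩
    · show T g * a = a * T g
      rw [← T_a0, ← map_mul, ← map_mul, h2]
    · show Perm.sign (T g) = 1
      rw [sign_T]
      exact Perm.mem_alternatingGroup.1 h1
  · rintro ⟨h1, h2⟩
    refine ⟨T.symm x, Subgroup.mem_inf.2 ⟨?_, ?_⟩, T.apply_symm_apply x⟩
    · rw [Perm.mem_alternatingGroup, ← sign_T, MulEquiv.apply_symm_apply]
      exact h2
    · rw [Subgroup.mem_centralizer_singleton_iff]
      apply T.injective
      rw [map_mul, map_mul, MulEquiv.apply_symm_apply, T_a0]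
      exact h1

/-- `C0 ≃* X` -/
noncomputable def eX : C0 ≃* X :=
  (T.subgroupMap C0).trans (MulEquiv.subgroupCongr map_T)

theorem card_C0 : Nat.card C0 = 23040 := by
  rw [Nat.card_congr eX.toEquiv, card_X]

section
variable {G : Type*} [Group G] {α : G}

/-- the homomorphism of `X` onto the centralizer -/
noncomputable def iot (e : Subgroup.centralizer ({α} : Set G) ≃* C0) : X →* G :=
  (Subgroup.centralizer ({α} : Set G)).subtype.comp (e.trans eX).symm.toMonoidHom

theorem hyp (hα : orderOf α = 2) (e : Subgroup.centralizer ({α} : Set G) ≃* C0) : AltGrp.Hyp α (iot e) where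
  ord := hα
  inj := (Subgroup.subtype_injective _).comp (e.trans eX).symm.injective
  range := by
    ext g
    constructor
    · rintro ⟨x, rfl⟩
      exact ((e.trans eX).symm x).2
    · intro hg
      refine ⟨(e.trans eX) ⟨g, hg⟩, ?_⟩
      show (((e.trans eX).symm ((e.trans eX) ⟨g, hg⟩) : Subgroup.centralizer ({α} : Set G)) : G) = g
      rw [MulEquiv.symm_apply_apply]

/-- the Sylow 2-subgroup is a Sylow 2-subgroup of `A₁₂` -/
theorem sylow [Finite G] (S : Sylow 2 G) (hS : (S : Subgroup G) ≤ Subgroup.centralizer {α})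
    (e : Subgroup.centralizer ({α} : Set G) ≃* C0) :
    ∃ P : Sylow 2 ↥(alternatingGroup (Fin 12)),
      Nonempty (↥(S : Subgroup G) ≃* ↥(P : Subgroup ↥(alternatingGroup (Fin 12)))) := by
  have hC : Nat.card (Subgroup.centralizer ({α} : Set G)) = 23040 := by
    rw [Nat.card_congr e.toEquiv, card_C0]
  have h1 : Nat.card (S : Subgroup G) ∣ 23040 := by
    rw [← hC]; exact Subgroup.card_dvd_of_le hS
  have h2 : 2 ^ 9 ∣ Nat.card (S : Subgroup G) := by
    have h3 : 2 ^ 9 ∣ Nat.card G := by
      have h4 : Nat.card (Subgroup.centralizer ({α} : Set G)) ∣ Nat.card G := Subgroup.card_subgroup_dvd_card _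
      rw [hC] at h4
      exact (by norm_num : 2 ^ 9 ∣ 23040).trans h4
    exact S.pow_dvd_card_of_pow_dvd_card h3
  have h3 : Nat.card (S : Subgroup G) = 512 := by
    obtain ⟨n, hn⟩ := IsPGroup.iff_card.1 S.2
    rw [hn] at h1 h2 ⊢
    have h4 : 9 ≤ n := (Nat.pow_dvd_pow_iff_le_right (by norm_num)).1 h2
    have h5 : n ≤ 9 := by
      by_contra h6
      push Not at h6
      have h7 : 2 ^ 10 ∣ 23040 := (pow_dvd_pow 2 h6).trans h1
      norm_num at h7
    have h6 : n = 9 := le_antisymm h5 h4
    rw [h6]; norm_num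
  -- the embedding in the alternating group
  let f : (S : Subgroup G) →* alternatingGroup (Fin 12) :=
    (Subgroup.inclusion (inf_le_left : C0 ≤ alternatingGroup (Fin 12))).comp
      (e.toMonoidHom.comp (Subgroup.inclusion hS))
  have hf : Function.Injective f :=
    (Subgroup.inclusion_injective (inf_le_left : C0 ≤ alternatingGroup (Fin 12))).comp
      (e.injective.comp (Subgroup.inclusion_injective hS))
  have h4 : Nat.card f.range = 512 := by
    rw [← h3]
    exact (Nat.card_congr (MonoidHom.ofInjective hf).toEquiv).symm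
  have h5 : Nat.card (alternatingGroup (Fin 12)) = 512 * 467775 := by
    rw [nat_card_alternatingGroup, Nat.card_eq_fintype_card, Fintype.card_fin]
    decide +kernel
  have h6 : IsPGroup 2 f.range := IsPGroup.of_card (n := 9) (by rw [h4]; norm_num)
  have h7 : ¬ 2 ∣ f.range.index := by
    have h8 := f.range.card_mul_index
    rw [h4, h5] at h8
    have h9 : f.range.index = 467775 := Nat.eq_of_mul_eq_mul_left (by norm_num) h8
    rw [h9]; norm_num
  refine ⟨h6.toSylow h7, ⟨?_⟩⟩
  exact MonoidHom.ofInjective hf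

end

end Cfsg.Agent.H333.AltTrans
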