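import Cfsg.Agent.H333.Mod64

/-!
# Kernel computations in the groups of order 64 of `Mod64` (helper333)
-/

set_option autoImplicit false
set_option maxRecDepth 100000

namespace Cfsg.Agent.H333.Chk64

open Cfsg.Agent.H333.Mod64

/-- `n` centralises or inverts `m` -/
def ciN (s t i m n : ℕ) : Bool :=
  Nat.beq (mulN s t i n m) (mulN s t i m n) || Nat.beq (mulN s t i (mulN s t i m n) m) n

/-- number of elements centralising or inverting `m` -/
def cnt (s t i m : ℕ) : ℕ := ((List.range 64).filter (fun n => ciN s t i m n)).length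

/-- square -/
def sq (s t i m : ℕ) : ℕ := mulN s t i m m

/-- the parity with kernel `C₀`: `i = 1`: the exponent of `y`; `i = 0`: `a + d` -/
def par (i m : ℕ) : Bool := cond (Nat.beq i 1) (Nat.beq (m / 32 % 2) 1) (Nat.beq ((m + m / 16) % 2) 1)

/-- the parity is a homomorphism -/
def chkPar (s t i : ℕ) : Bool := (List.range 64).all fun m => (List.range 64).all fun n =>
  cond (par i (mulN s t i m n)) (xor (par i m) (par i n)) (!(xor (par i m) (par i n)))

/-- conditions on the element of order 8 and on the elements of orders 8, 4, 2 -/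
def chkA (s t i u : ℕ) : Bool :=
  (!(Nat.beq (sq s t i (sq s t i u)) 0)) && Nat.beq (sq s t i (sq s t i (sq s t i u))) 0 &&
  ((List.range 64).all fun n => ciN s t i (sq s t i u) n && ciN s t i (sq s t i (sq s t i u)) n) &&
  ((List.range 64).all fun m =>
    (par i m || Nat.beq (sq s t i (sq s t i m)) 0 || Nat.blt (cnt s t i m) (cnt s t i u)) &&
    (!(par i m) || Nat.beq (sq s t i m) 0 || !(Nat.beq (sq s t i (sq s t i m)) 0) ||
      Nat.ble (cnt s t i m) 16) &&
    (!(par i m) || !(Nat.beq (sq s t i m) 0) || Nat.ble (cnt s t i m) 8))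

theorem par_001 : chkPar 0 0 1 = true := by decide +kernel
theorem par_011 : chkPar 0 1 1 = true := by decide +kernel
theorem par_101 : chkPar 1 0 1 = true := by decide +kernel
theorem par_111 : chkPar 1 1 1 = true := by decide +kernel
theorem par_010 : chkPar 0 1 0 = true := by decide +kernel
theorem par_100 : chkPar 1 0 0 = true := by decide +kernel
theorem par_110 : chkPar 1 1 0 = true := by decide +kernel

theorem chkA_001 : chkA 0 0 1 56 = true := by decide +kernel
theorem chkA_011 : chkA 0 1 1 56 = true := by decide +kernel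
theorem chkA_101 : chkA 1 0 1 56 = true := by decide +kernel
theorem chkA_111 : chkA 1 1 1 56 = true := by decide +kernel
theorem chkA_010 : chkA 0 1 0 1 = true := by decide +kernel
theorem chkA_100 : chkA 1 0 0 1 = true := by decide +kernel

/-- the check for `s = t = 1`, `i = 0` -/
def chkB : Bool :=
  ((List.range 64).all fun m => !(par 0 m) || !(Nat.beq (sq 1 1 0 m) 0)) &&
  ((List.range 64).all fun p => par 0 p || Nat.beq (sq 1 1 0 p) 0 || !(Nat.beq (sq 1 1 0 (sq 1 1 0 p)) 0) ||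
    ((List.range 64).all fun q => Nat.beq (sq 1 1 0 q) 0 || !(Nat.beq (sq 1 1 0 (sq 1 1 0 q)) 0) ||
      !(Nat.beq (mulN 1 1 0 p q) (mulN 1 1 0 q p)) || Nat.beq (sq 1 1 0 p) (sq 1 1 0 q) ||
      ((List.range 64).all fun v => !(Nat.beq (mulN 1 1 0 (mulN 1 1 0 p v) p) v) ||
        !(Nat.beq (mulN 1 1 0 (mulN 1 1 0 q v) q) v) || !(Nat.beq (sq 1 1 0 v) (sq 1 1 0 q)))))

theorem chkB_true : chkB = true := by decide +kernel

/-! ### type `(0, 0, 0)` -/

/-- powers of codes, type `(0, 0, 0)` -/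
def powN (m : ℕ) : ℕ → ℕ
  | 0 => 0
  | k + 1 => mulN 0 0 0 (powN m k) m

/-- the code of `A ^ i * B ^ j * (C ^ e * D ^ d)` -/
def tau (i j e d : ℕ) : ℕ :=
  mulN 0 0 0 (mulN 0 0 0 (powN 48 i) (powN 50 j)) (mulN 0 0 0 (powN 32 e) (powN 17 d))

theorem tau_ne : ∀ i j : Fin 4, ∀ e d : Fin 2, tau i j e d = 0 → i = 0 ∧ j = 0 ∧ e = 0 ∧ d = 0 := by
  decide +kernel

theorem rel_T : powN 48 4 = 0 ∧ powN 50 4 = 0 ∧ mulN 0 0 0 48 50 = mulN 0 0 0 50 48 ∧ mulN 0 0 0 32 32 = 0 ∧
    mulN 0 0 0 17 17 = 0 ∧ mulN 0 0 0 32 17 = mulN 0 0 0 17 32 ∧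
    mulN 0 0 0 (mulN 0 0 0 48 32) 48 = 32 ∧ mulN 0 0 0 (mulN 0 0 0 50 32) 50 = 32 ∧
    mulN 0 0 0 17 48 = mulN 0 0 0 50 17 ∧ mulN 0 0 0 17 50 = mulN 0 0 0 48 17 := by
  decide +kernel

end Cfsg.Agent.H333.Chk64
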