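import Mathlib
import Cfsg.Agent.GH.Cov.SzCover

/-! A copy of the section `EvenSz` of `Cfsg.Agent.OddHalf.D4.Final.Cov` (facts on covers of the Suzuki groups), with light imports. -/

section

/-!
# ODD half, node D4, covers of the Suzuki groups: the facts (P1), (P2)

`K` perfect, `K / Z(K) ≅ Sz(q)`, `Z(K)` with exactly one involution (any `q`, no multiplier facts).

* `p1`: commuting is not needed: `α, β` involutory automorphisms with `C_K(α) ≤ C_K(β)` are equal;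
* `p2`: for every involutory automorphism `α` there is `x` with `α(x)⁻¹ x` a noncentral involution (an element of
  order 2 modulo nothing).
-/

set_option autoImplicit false
set_option linter.unusedSectionVars false
set_option linter.style.haveILetI false
set_option linter.unusedVariables false

namespace Cfsg.Agent.H333.EvenSzC

open scoped commutatorElement
open Cfsg.Agent.StdSz Cfsg.Agent.StdSz.FormAlg Cfsg.Agent.StdSz.BorelCoord Cfsg.Agent.StdSz.CoverA
open Cfsg.Agent.StdSz.CoverC Cfsg.Agent.GH.Cov.SzCover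
open Cfsg.Agent.LieRecognition Cfsg.Agent

variable {A : Type*} [Group A] [Finite A] {F : Type*} [Field F] [Fintype F] {m : ℕ}

/-- the centraliser in `Sz(q)` of `p 0 c`: an element of order at most 2 in it is a `p 0 d`. -/
theorem cent_p (hm : 1 ≤ m) (hF : Fintype.card F = 2 ^ (2 * m + 1)) {c : F} (hc : c ≠ 0)
    {y : ↥(Cfsg.Lie.Sz F (2 ^ (m + 1)))} (hy : y * (szData hF).p 0 c = (szData hF).p 0 c * y)
    (hyy : y * y = 1) : ∃ d, y = (szData hF).p 0 d := by
  haveI := EquivMaps.charP_two hF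
  let R : ThreePrime.SzRel.Rel ↥(Cfsg.Lie.Sz F (2 ^ (m + 1))) F :=
    ThreePrime.SzRel.ofGood (SzMatrix.good hF)
  have hp : ∀ d : F, (szData hF).p 0 d = R.u 0 d := by
    intro d
    show (SzMatrix.good hF).u 0 (d + 0 * SzMatrix.theta hF 0) = (SzMatrix.good hF).u 0 d
    rw [zero_mul, add_zero]
  have h1 : y * R.u 0 c * y⁻¹ = R.u 0 c := by
    rw [← hp, hy, mul_inv_cancel_right]
  have hne : R.u 0 c ≠ 1 := R.u_ne_one hc
  obtain ⟨a, b, k, rfl⟩ := R.exists_ud (R.u_mem 0 c) hne (by rw [h1]; exact R.u_mem _ _)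
  have h2 : R.d k * R.u 0 c * (R.d k)⁻¹ = R.u 0 c := by
    have h3 : R.u a b * (R.d k * R.u 0 c * (R.d k)⁻¹) * (R.u a b)⁻¹ = R.u 0 c := by
      have h6 : R.u a b * (R.d k * R.u 0 c * (R.d k)⁻¹) * (R.u a b)⁻¹ =
          R.u a b * R.d k * R.u 0 c * (R.u a b * R.d k)⁻¹ := by group
      rw [h6, h1]
    have h4 : R.u a b * R.u 0 c * (R.u a b)⁻¹ = R.u 0 c := by
      have h5 : R.u a b * R.u 0 c = R.u 0 c * R.u a b := by
        rw [R.comm_iff, map_zero, mul_zero, zero_mul]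
      rw [h5, mul_inv_cancel_right]
    calc R.d k * R.u 0 c * (R.d k)⁻¹
        = (R.u a b)⁻¹ * (R.u a b * (R.d k * R.u 0 c * (R.d k)⁻¹) * (R.u a b)⁻¹) * R.u a b := by group
      _ = (R.u a b)⁻¹ * (R.u a b * R.u 0 c * (R.u a b)⁻¹) * R.u a b := by rw [h3, h4]
      _ = R.u 0 c := by group
  have hk : k = 1 := by
    rcases R.fpf h2 with h | h
    · exact h
    · exact absurd h.2 hc
  subst hk
  rw [R.d_one, mul_one] at hyy ⊢
  have ha := (R.u_sq_iff a b).mp hyy
  subst ha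
  exact ⟨b, (hp b).symm⟩

/-- an involution of `Sz(q)` is conjugate to some `p 0 c`. -/
theorem exists_conj_p (hm : 1 ≤ m) (hF : Fintype.card F = 2 ^ (2 * m + 1))
    {y : ↥(Cfsg.Lie.Sz F (2 ^ (m + 1)))} (hyy : y * y = 1) (hy : y ≠ 1) :
    ∃ g c, c ≠ 0 ∧ g * y * g⁻¹ = (szData hF).p 0 c := by
  haveI := EquivMaps.charP_two hF
  haveI : Fact (Nat.Prime 2) := ⟨Nat.prime_two⟩
  let R : ThreePrime.SzRel.Rel ↥(Cfsg.Lie.Sz F (2 ^ (m + 1))) F :=
    ThreePrime.SzRel.ofGood (SzMatrix.good hF)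
  have hp : ∀ d : F, (szData hF).p 0 d = R.u 0 d := by
    intro d
    show (SzMatrix.good hF).u 0 (d + 0 * SzMatrix.theta hF 0) = (SzMatrix.good hF).u 0 d
    rw [zero_mul, add_zero]
  obtain ⟨Sy, hSy⟩ := R.exists_sylow_eq hm hF
  have h2 : IsPGroup 2 (Subgroup.zpowers y) :=
    CoverB.isPGroup_zpowers (k := 1) (by rw [pow_one, sq, hyy])
  obtain ⟨Q, hQ⟩ := h2.exists_le_sylow
  obtain ⟨g, hg⟩ := MulAction.exists_smul_eq ↥(Cfsg.Lie.Sz F (2 ^ (m + 1))) Q Sy
  have h3 : g * y * g⁻¹ ∈ R.T := by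
    rw [← hSy, ← hg, Sylow.coe_subgroup_smul]
    exact Subgroup.smul_mem_pointwise_smul y (MulAut.conj g) _ (hQ (Subgroup.mem_zpowers y))
  obtain ⟨a, b, hab⟩ := h3
  have h4 : R.u a b * R.u a b = 1 := by
    rw [← hab]
    calc g * y * g⁻¹ * (g * y * g⁻¹) = g * (y * y) * g⁻¹ := by group
      _ = 1 := by rw [hyy]; group
  have ha := (R.u_sq_iff a b).mp h4
  subst ha
  refine ⟨g, b, ?_, by rw [hp]; exact hab⟩
  rintro rfl
  rw [R.u_zero] at hab
  apply hy
  calc y = g⁻¹ * (g * y * g⁻¹) * g := by group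
    _ = 1 := by rw [hab]; group

/-- The data of the cover. -/
theorem exists_data (hp : commutator A = ⊤) (hm : 1 ≤ m) (hF : Fintype.card F = 2 ^ (2 * m + 1))
    (e : A ⧸ Subgroup.center A ≃* ↥(Cfsg.Lie.Sz F (2 ^ (m + 1)))) {t : A} (ht1 : t ≠ 1)
    (ht : t * t = 1) (htc : t ∈ Subgroup.center A)
    (hu : ∀ z ∈ Subgroup.center A, z * z = 1 → z = 1 ∨ z = t) :
    ∃ (π : A →* ↥(Cfsg.Lie.Sz F (2 ^ (m + 1)))) (P : Subgroup A) (zh : F → A),
      Function.Surjective π ∧ (∀ x : A, π x = 1 ↔ x ∈ Subgroup.center A) ∧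
      Cov (szData hF) π P t ∧ Cov.IsZh (szData hF) π P zh ∧
      (∀ x ∈ P, ∀ c, ⁅x, zh c⁆ = 1 ∨ ⁅x, zh c⁆ = t) ∧ ∀ c, c ≠ 0 → ∃ x ∈ P, ⁅x, zh c⁆ = t := by
  haveI := EquivMaps.charP_two hF
  obtain ⟨π, P, B⟩ := exists_base hm hF e
  have K := B.cov ht1 ht htc hu
  have hcom : (⟨t, K.t_mem⟩ : P) ∈ commutator P :=
    mem_commutator_of_central P B.odd t K.t_mem (fun g => (Subgroup.mem_center_iff.mp htc g).symm)
      ht (by rw [hp]; exact Subgroup.mem_top _)
  obtain ⟨zh, Z, h1, -, h2⟩ := K.main hm hF hcom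
  exact ⟨π, P, zh, B.surj, B.ker, K, Z, h1, h2⟩

/-- **(P1)**: an involutory automorphism is determined by its centraliser, and centralisers of involutory automorphisms
are maximal among each other. -/
theorem p1 (hp : commutator A = ⊤) (hm : 1 ≤ m) (hF : Fintype.card F = 2 ^ (2 * m + 1))
    (e : A ⧸ Subgroup.center A ≃* ↥(Cfsg.Lie.Sz F (2 ^ (m + 1)))) {t : A} (ht1 : t ≠ 1)
    (ht : t * t = 1) (htc : t ∈ Subgroup.center A)
    (hu : ∀ z ∈ Subgroup.center A, z * z = 1 → z = 1 ∨ z = t) {α β : MulAut A} (hα : α * α = 1)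
    (hα1 : α ≠ 1) (hβ : β * β = 1) (hβ1 : β ≠ 1) (hle : ∀ x, α x = x → β x = x) : α = β := by
  haveI := EquivMaps.charP_two hF
  obtain ⟨π, P, zh, hsurj, hker, K, Z, hval, hex⟩ := exists_data hp hm hF e ht1 ht htc hu
  obtain ⟨a, ha⟩ := exists_inner hp hm hF e α (k := 1) (by rw [pow_one, sq, hα])
  obtain ⟨b, hb⟩ := exists_inner hp hm hF e β (k := 1) (by rw [pow_one, sq, hβ])
  -- `a, b` are noncentral, with central squares
  have hsq : ∀ (γ : MulAut A) (g : A), γ * γ = 1 → (∀ x, γ x = g * x * g⁻¹) → π g * π g = 1 := by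
    intro γ g h1 h2
    rw [← map_mul, hker, Subgroup.mem_center_iff]
    intro x
    have h3 : γ (γ x) = x := by
      rw [← MulAut.mul_apply, h1]; rfl
    rw [h2, h2] at h3
    have h4 : g * (g * x * g⁻¹) * g⁻¹ = (g * g) * x * (g * g)⁻¹ := by group
    rw [h4] at h3
    calc x * (g * g) = ((g * g) * x * (g * g)⁻¹) * (g * g) := by rw [h3]
      _ = g * g * x := by group
  have hne : ∀ (γ : MulAut A) (g : A), γ ≠ 1 → (∀ x, γ x = g * x * g⁻¹) → π g ≠ 1 := by
    intro γ g h1 h2 h3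
    apply h1
    ext x
    rw [h2, MulAut.one_apply, ← Subgroup.mem_center_iff.mp ((hker g).mp h3) x, mul_inv_cancel_right]
  have hcomm : ∀ x, x * a = a * x → x * b = b * x := by
    intro x hx
    have h1 : α x = x := by rw [ha, ← hx, mul_inv_cancel_right]
    have h2 := hle x h1
    rw [hb] at h2
    calc x * b = (b * x * b⁻¹) * b := by rw [h2]
      _ = b * x := by group
  obtain ⟨g0, c, hc, hg0⟩ := exists_conj_p hm hF (hsq α a hα ha) (hne α a hα1 ha)
  obtain ⟨g, rfl⟩ := hsurj g0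
  -- conjugates
  set a' := g * a * g⁻¹ with ha'
  set b' := g * b * g⁻¹ with hb'
  have hπa : π a' = (szData hF).p 0 c := by rw [ha', map_mul, map_mul, map_inv]; exact hg0
  have hcomm' : ∀ x, x * a' = a' * x → x * b' = b' * x := by
    intro x hx
    have h1 : (g⁻¹ * x * g) * a = a * (g⁻¹ * x * g) := by
      calc (g⁻¹ * x * g) * a = g⁻¹ * (x * a') * g := by rw [ha']; group
        _ = g⁻¹ * (a' * x) * g := by rw [hx]
        _ = a * (g⁻¹ * x * g) := by rw [ha']; group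
    have h2 := hcomm _ h1
    calc x * b' = g * ((g⁻¹ * x * g) * b) * g⁻¹ := by rw [hb']; group
      _ = g * (b * (g⁻¹ * x * g)) * g⁻¹ := by rw [h2]
      _ = b' * x := by rw [hb']; group
  have hab : a' * b' = b' * a' := hcomm' a' rfl
  have hbb : π b' * π b' = 1 := by
    have h1 := hsq β b hβ hb
    rw [hb', map_mul, map_mul, map_inv]
    calc π g * π b * (π g)⁻¹ * (π g * π b * (π g)⁻¹) = π g * (π b * π b) * (π g)⁻¹ := by group
      _ = 1 := by rw [h1]; group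
  obtain ⟨d, hd⟩ := cent_p hm hF hc (y := π b') (by rw [← hπa, ← map_mul, ← map_mul, hab]) hbb
  have hd0 : d ≠ 0 := by
    rintro rfl
    rw [(szData hF).p_zero] at hd
    apply hne β b hβ1 hb
    calc π b = (π g)⁻¹ * π b' * π g := by rw [hb', map_mul, map_mul, map_inv]; group
      _ = 1 := by rw [hd]; group
  -- functionals
  have hfa : ∀ x : A, ⁅x, zh c⁆ = ⁅x, a'⁆ := fun x => K.comm_eq rfl (by rw [Z.pi, hπa])
  have hfb : ∀ x : A, ⁅x, zh d⁆ = ⁅x, b'⁆ := fun x => K.comm_eq rfl (by rw [Z.pi, hd])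
  have himp : ∀ x : A, ⁅x, zh c⁆ = 1 → ⁅x, zh d⁆ = 1 := by
    intro x hx
    rw [hfb, commutatorElement_eq_one_iff_mul_comm]
    rw [hfa, commutatorElement_eq_one_iff_mul_comm] at hx
    exact hcomm' x hx
  have hkt : ∀ x ∈ P, ∀ c, π ⁅x, zh c⁆ = 1 := by
    intro x hx c
    rcases hval x hx c with h | h
    · rw [h, map_one]
    · rw [h, K.t_ker]
  have hcd : c = d := by
    by_contra hcd
    have h1 : c + d ≠ 0 := fun h => hcd (CharTwo.add_eq_zero.mp h)
    obtain ⟨x, hx, hxt⟩ := hex _ h1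
    rw [Z.add, K.cr (hkt x hx d)] at hxt
    have hxc : ⁅x, zh c⁆ = t ∧ ⁅x, zh d⁆ = 1 := by
      rcases hval x hx c with h | h
      · exfalso
        rw [h, himp x h, one_mul] at hxt
        exact K.t_one hxt.symm
      · refine ⟨h, ?_⟩
        rw [h] at hxt
        exact mul_eq_left.mp hxt
    obtain ⟨y, hy, hyt⟩ := hex d hd0
    have hyc : ⁅y, zh c⁆ = t := by
      rcases hval y hy c with h | h
      · exfalso
        rw [himp y h] at hyt
        exact K.t_one hyt.symm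
      · exact h
    have h2 : ⁅x * y, zh c⁆ = 1 := by
      rw [K.cl (hkt y hy c), hxc.1, hyc, K.t_sq]
    have h3 := himp _ h2
    rw [K.cl (hkt y hy d), hxc.2, hyt, one_mul] at h3
    exact K.t_one h3
  subst hcd
  -- `a'` and `b'` agree modulo the centre
  have hcen : π (b⁻¹ * a) = 1 := by
    have h1 : π a' = π b' := by rw [hπa, hd]
    rw [ha', hb', map_mul, map_mul, map_mul, map_mul] at h1
    have h2 : π a = π b := by
      have := mul_right_cancel h1
      exact mul_left_cancel this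
    rw [map_mul, map_inv, h2, inv_mul_cancel]
  ext x
  have h5 := Subgroup.mem_center_iff.mp ((hker _).mp hcen) x
  rw [ha, hb]
  calc a * x * a⁻¹ = b * ((b⁻¹ * a) * x) * a⁻¹ := by group
    _ = b * (x * (b⁻¹ * a)) * a⁻¹ := by rw [h5]
    _ = b * x * b⁻¹ := by group

/-- **(P2)**: for an involutory automorphism `α` there is `x` with `α(x)⁻¹ x` a noncentral involution. -/
theorem p2 (hp : commutator A = ⊤) (hm : 1 ≤ m) (hF : Fintype.card F = 2 ^ (2 * m + 1))
    (e : A ⧸ Subgroup.center A ≃* ↥(Cfsg.Lie.Sz F (2 ^ (m + 1)))) {t : A} (ht1 : t ≠ 1)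
    (ht : t * t = 1) (htc : t ∈ Subgroup.center A)
    (hu : ∀ z ∈ Subgroup.center A, z * z = 1 → z = 1 ∨ z = t) {α : MulAut A} (hα : α * α = 1)
    (hα1 : α ≠ 1) :
    ∃ x : A, ((α x)⁻¹ * x) * ((α x)⁻¹ * x) = 1 ∧ (α x)⁻¹ * x ∉ Subgroup.center A := by
  haveI := EquivMaps.charP_two hF
  obtain ⟨π, P, zh, hsurj, hker, K, Z, hval, hex⟩ := exists_data hp hm hF e ht1 ht htc hu
  obtain ⟨a, ha⟩ := exists_inner hp hm hF e α (k := 1) (by rw [pow_one, sq, hα])
  have hsq : π a * π a = 1 := by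
    rw [← map_mul, hker, Subgroup.mem_center_iff]
    intro x
    have h3 : α (α x) = x := by
      rw [← MulAut.mul_apply, hα]; rfl
    rw [ha, ha] at h3
    have h4 : a * (a * x * a⁻¹) * a⁻¹ = (a * a) * x * (a * a)⁻¹ := by group
    rw [h4] at h3
    calc x * (a * a) = ((a * a) * x * (a * a)⁻¹) * (a * a) := by rw [h3]
      _ = a * a * x := by group
  have hne : π a ≠ 1 := by
    intro h3
    apply hα1
    ext x
    rw [ha, MulAut.one_apply, ← Subgroup.mem_center_iff.mp ((hker a).mp h3) x, mul_inv_cancel_right]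
  obtain ⟨g0, c, hc, hg0⟩ := exists_conj_p hm hF hsq hne
  obtain ⟨g, rfl⟩ := hsurj g0
  set a' := g * a * g⁻¹ with ha'
  have hπa : π a' = (szData hF).p 0 c := by rw [ha', map_mul, map_mul, map_inv]; exact hg0
  obtain ⟨l, hl⟩ := Cov.exists_unit_ne_one (F := F) hm hF
  obtain ⟨h, hh⟩ := K.tor l
  set w := (l : F) ^ (1 + 2 ^ (m + 1)) with hw
  -- `a' = s * zh c`
  set s := a' * (zh c)⁻¹ with hs
  have hs1 : π s = 1 := by rw [hs, map_mul, map_inv, hπa, Z.pi, mul_inv_cancel]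
  have hsc := K.cen s hs1
  have ha2 : a' = s * zh c := by rw [hs]; group
  have key : a' * (h * a'⁻¹ * h⁻¹) = zh (c + w * c) := by
    have h1 : h * a'⁻¹ * h⁻¹ = (h * zh c * h⁻¹)⁻¹ * s⁻¹ := by
      rw [ha2]
      have h2 : h * (s * zh c)⁻¹ * h⁻¹ = h * (zh c)⁻¹ * (s⁻¹ * h⁻¹) := by group
      have h3 : s⁻¹ * h⁻¹ = h⁻¹ * s⁻¹ := by
        have := hsc h
        calc s⁻¹ * h⁻¹ = (h * s)⁻¹ := by group
          _ = (s * h)⁻¹ := by rw [this]
          _ = h⁻¹ * s⁻¹ := by group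
      rw [h2, h3]; group
    have h4 : (zh (w * c))⁻¹ = zh (w * c) := inv_eq_of_mul_eq_one_right (Z.sq _)
    rw [h1, Z.conj h l hh c, ← hw, h4, ha2, Z.add]
    calc s * zh c * (zh (w * c) * s⁻¹) = s * (zh c * zh (w * c)) * s⁻¹ := by group
      _ = zh c * zh (w * c) := by rw [hsc, mul_inv_cancel_right]
  have hx : ((α (g⁻¹ * h⁻¹ * g))⁻¹ * (g⁻¹ * h⁻¹ * g)) = g⁻¹ * zh (c + w * c) * g := by
    rw [← key, ha, ha']; group
  have hnz : c + w * c ≠ 0 := by
    intro h0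
    have h1 : (1 + w) * c = 0 := by rw [add_mul, one_mul]; exact h0
    rcases mul_eq_zero.mp h1 with h2 | h2
    · apply hl
      exact (CharTwo.add_eq_zero.mp h2).symm
    · exact hc h2
  refine ⟨g⁻¹ * h⁻¹ * g, ?_, ?_⟩
  · rw [hx]
    calc g⁻¹ * zh (c + w * c) * g * (g⁻¹ * zh (c + w * c) * g)
        = g⁻¹ * (zh (c + w * c) * zh (c + w * c)) * g := by group
      _ = 1 := by rw [Z.sq]; group
  · rw [hx]
    intro h1
    have h2 : g * (g⁻¹ * zh (c + w * c) * g) = (g⁻¹ * zh (c + w * c) * g) * g :=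
      Subgroup.mem_center_iff.mp h1 g
    have h3 : zh (c + w * c) = g⁻¹ * zh (c + w * c) * g := by
      have h4 : g * (g⁻¹ * zh (c + w * c) * g) * g⁻¹ = zh (c + w * c) := by group
      rw [h2, mul_inv_cancel_right] at h4
      exact h4.symm
    rw [← h3] at h1
    have h5 := (hker _).mpr h1
    rw [Z.pi, ← (szData hF).p_zero] at h5
    exact hnz ((szData hF).p_inj _ _ _ _ h5).2

end Cfsg.Agent.H333.EvenSzC

end

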