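import Cfsg.Agent.H333.LineTrans
import Cfsg.Prelude.Def_LieClassical
import Cfsg.Prelude.Def_LieTwisted

/-!
# The two-transitive case of S3235 (helper333)

`G` simple, `A` of order `p ≥ 7`, pairs of distinct conjugates of `A` generate `PSL₂(p^m)` or
`SL₂(p^m)` (no two commute).  Then `G` is 2-transitive on the conjugates and S3256 applies.
-/

set_option autoImplicit false

universe v

namespace Cfsg.Agent.H333.KeyGTwo

open Cfsg.Agent.H333.SLTwoLine Cfsg.Agent.H333.LineTrans Subgroup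

/-- S3256 for the group `G` -/
def TwoCyc (G : Type v) [Group G] : Prop :=
  ∀ (Ω : Type v) [Fintype Ω] [MulAction G Ω] [FaithfulSMul G Ω] (_h2 : MulAction.IsMultiplyPretransitive G Ω 2)
    (α : Ω) (Q : Subgroup G) (_hQ : Q ≤ MulAction.stabilizer G α)
    (_hQn : (Q.subgroupOf (MulAction.stabilizer G α)).Normal) (_hQ1 : Q ≠ ⊥) (_hQc : IsCyclic ↥Q),
    (∃ N : Subgroup G, N.Normal ∧ MulAction.IsPretransitive ↥N Ω ∧ ∀ x : Ω, MulAction.stabilizer ↥N x = ⊥) ∨
      (∃ (F : Type) (_ : Field F) (_ : Fintype F), Fintype.card Ω = Fintype.card F + 1 ∧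
        Nonempty (↥(Subgroup.normalClosure (Q : Set G)) ≃* Matrix.ProjectiveSpecialLinearGroup (Fin 2) F)) ∨
      (∃ (F : Type) (_ : Field F) (_ : Fintype F) (q : ℕ), Fintype.card F = q ^ 2 ∧ Fintype.card Ω = q ^ 3 + 1 ∧
        Nonempty (↥(Subgroup.normalClosure (Q : Set G)) ≃* Cfsg.PSU 3 F q)) ∨
      (Fintype.card Ω = 28 ∧ (∃ (F : Type) (_ : Field F) (_ : Fintype F), Fintype.card F = 8 ∧
          Nonempty (↥(Subgroup.normalClosure (Q : Set G)) ≃* Matrix.ProjectiveSpecialLinearGroup (Fin 2) F)) ∧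
        ∃ (K : Type) (_ : Field K) (_ : Fintype K), Fintype.card K = 3 ∧ Nonempty (G ≃* ↥(Cfsg.Lie.twistedG2 K 1)))

variable {G : Type v} [Group G]

theorem Line.conj {p : ℕ} {A B : Subgroup G} (h : Line p A B) (g : G) : Line p (cj A g) (cj B g) := by
  obtain ⟨K, i1, i2, φ, hK, hφ, hX, hA, hB⟩ := h
  have key : ∀ (C : Subgroup G) (f : K → Matrix.SpecialLinearGroup (Fin 2) K), (∀ z, z ∈ C ↔ ∃ x, φ (f x) = z) →
      ∀ z, z ∈ cj C g ↔ ∃ x, ((MulAut.conj g).toMonoidHom.comp φ) (f x) = z := by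
    intro C f hC z
    rw [mem_cj, hC]
    constructor
    · rintro ⟨x, hx⟩
      refine ⟨x, ?_⟩
      show g * φ (f x) * g⁻¹ = z
      rw [hx]; group
    · rintro ⟨x, hx⟩
      refine ⟨x, ?_⟩
      rw [← hx]
      show φ (f x) = g⁻¹ * (g * φ (f x) * g⁻¹) * g
      group
  refine ⟨K, i1, i2, (MulAut.conj g).toMonoidHom.comp φ, hK, ?_, ?_, key A u hA, key B l hB⟩
  · intro x hx
    apply hφ
    have h1 : g * φ x * g⁻¹ = 1 := hx
    have : φ x = g⁻¹ * (g * φ x * g⁻¹) * g := by group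
    rw [this, h1]; group
  · rw [MonoidHom.range_comp, hX, Subgroup.map_sup]

theorem dvd_of_ringChar {F : Type} [Field F] [Fintype F] {p : ℕ} (hp : p.Prime) (h : p ∣ Fintype.card F) :
    ringChar F = p := by
  obtain ⟨n, hr, hn⟩ := FiniteField.card F (ringChar F)
  rw [hn] at h
  exact ((Nat.prime_dvd_prime_iff_eq hp hr).1 (hp.dvd_of_dvd_pow h)).symm

variable [Finite G]

omit [Finite G] in
/-- in the two-transitive case two members normalising each other are equal -/
theorem eq_of_norm {p : ℕ} (hp : p.Prime) (A B : Subgroup G) (hA : Nat.card A = p) (hB : Nat.card B = p)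
    (hn : ∀ b ∈ B, cj A b = A) : ∀ a ∈ A, ∀ b ∈ B, a * b = b * a := by
  intro a ha b hb
  obtain ⟨k, hk⟩ := exists_mult hp A hA b (hn b hb)
  have h1 : ∀ n : ℕ, b ^ n * a * (b ^ n)⁻¹ = a ^ (k ^ n) := by
    intro n
    induction n with
    | zero => simp
    | succ n ih =>
      have : b ^ (n + 1) * a * (b ^ (n + 1))⁻¹ = b * (b ^ n * a * (b ^ n)⁻¹) * b⁻¹ := by
        rw [pow_succ' b n]; group
      rw [this, ih, hk _ (A.pow_mem ha _), ← pow_mul, pow_succ]
  have hbp : b ^ p = 1 := by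
    have h2 : (⟨b, hb⟩ : B) ^ p = 1 := by rw [← hB]; exact pow_card_eq_one'
    exact congrArg Subtype.val h2
  have hap : a ^ p = 1 := by
    have h2 : (⟨a, ha⟩ : A) ^ p = 1 := by rw [← hA]; exact pow_card_eq_one'
    exact congrArg Subtype.val h2
  have h2 := h1 p
  rw [hbp] at h2
  by_cases ha1 : a = 1
  · rw [ha1]; simp
  have ho : orderOf a = p := by
    rcases (Nat.dvd_prime hp).1 (orderOf_dvd_of_pow_eq_one hap) with h3 | h3
    · exact absurd (orderOf_eq_one_iff.1 h3) ha1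
    · exact h3
  have h3 : a ^ (k ^ p) = a ^ 1 := by rw [← h2]; simp
  rw [pow_eq_pow_iff_modEq, ho] at h3
  have h4 : k ^ p ≡ k [MOD p] := by
    have := Fact.mk hp
    have h5 := ZMod.pow_card (p := p) (k : ZMod p)
    have h6 : ((k ^ p : ℕ) : ZMod p) = (k : ℕ) := by push_cast; exact h5
    exact (ZMod.natCast_eq_natCast_iff _ _ _).1 h6
  have h5 : k ≡ 1 [MOD p] := h4.symm.trans h3
  have h6 : a ^ k = a ^ 1 := by rw [pow_eq_pow_iff_modEq, ho]; exact h5
  have h7 := hk a ha
  rw [h6, pow_one, mul_inv_eq_iff_eq_mul] at h7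
  exact h7.symm

theorem main [IsSimpleGroup G] (H : TwoCyc G) {p : ℕ} (hp : p.Prime) (hp7 : 7 ≤ p) (A : Subgroup G)
    (hA : Nat.card A = p) (hne : ∃ g, cj A g ≠ A)
    (hpair : ∀ g : G, cj A g ≠ A → (∀ a ∈ A, ∀ b ∈ cj A g, a * b = b * a) ∨
      ∃ (K : Type) (_ : Field K) (_ : Fintype K) (m : ℕ), 1 ≤ m ∧ Fintype.card K = p ^ m ∧
        (Nonempty (↥(A ⊔ cj A g) ≃* Matrix.ProjectiveSpecialLinearGroup (Fin 2) K) ∨
          Nonempty (↥(A ⊔ cj A g) ≃* Matrix.SpecialLinearGroup (Fin 2) K)))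
    (hnc : ∀ g : G, (∀ a ∈ A, ∀ b ∈ cj A g, a * b = b * a) → cj A g = A) :
    ∃ (F : Type) (_ : Field F) (_ : Fintype F), ringChar F = p ∧
      (Nonempty (G ≃* Matrix.ProjectiveSpecialLinearGroup (Fin 2) F) ∨
        ∃ q : ℕ, Fintype.card F = q ^ 2 ∧ Nonempty (G ≃* Cfsg.PSU 3 F q)) := by
  classical
  have hp2 : p ≠ 2 := by omega
  -- lines through `A`
  have hLA : ∀ g, cj A g ≠ A → Line p A (cj A g) := by
    intro g hg
    rcases hpair g hg with h | ⟨K, i1, i2, m, hm, hK, hiso⟩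
    · exact absurd (hnc g h) hg
    · obtain ⟨φ, hφ, hr⟩ := exists_phi (A ⊔ cj A g) hiso
      have hKp : Fintype.card K = p := by
        refine card_eq hp hp2 hm hK hφ A hA (by rw [hr]; exact le_sup_left) ?_
        intro x _ hx a ha
        have h1 := hnc x (by
          intro a' ha' b hb
          rw [mem_cj] at hb
          have := hx a' ha' _ hb
          have e : x * (x⁻¹ * b * x) * x⁻¹ = b := by group
          rwa [e] at this)
        rw [← h1]
        exact ⟨a, ha, rfl⟩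
      exact exists_line hp hp2 hKp hφ A (cj A g) hA (by rw [cj_card, hA]) (fun h => hg h.symm) hr
  have hL : ∀ g h : G, cj A g ≠ cj A h → Line p (cj A g) (cj A h) := by
    intro g h hgh
    have h1 : cj A (g⁻¹ * h) ≠ A := by
      intro h2
      apply hgh
      have := congrArg (fun X => cj X g) h2
      simp only [cj_cj, mul_inv_cancel_left] at this
      exact this.symm
    have h2 := Line.conj (hLA _ h1) g
    rwa [cj_cj, mul_inv_cancel_left] at h2
  have htr := trans hp hp7 A hA hL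
  set N := Subgroup.normalizer (A : Set G) with hN
  have hNcj : ∀ g, g ∈ N ↔ cj A g = A := by
    intro g
    rw [hN, Subgroup.mem_normalizer_iff]
    constructor
    · intro h
      ext x
      rw [mem_cj]
      have := h (g⁻¹ * x * g)
      have e : g * (g⁻¹ * x * g) * g⁻¹ = x := by group
      rw [e] at this
      exact this
    · intro h x
      constructor
      · intro hx
        rw [← h]; exact ⟨x, hx, rfl⟩
      · intro hx
        rw [← h, mem_cj] at hx
        have e : g⁻¹ * (g * x * g⁻¹) * g = x := by group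
        rwa [e] at hx
  have hfA : Finite A := inferInstance
  have hAbot : A ≠ ⊥ := by
    rintro rfl
    rw [Subgroup.card_bot] at hA
    exact hp.one_lt.ne hA
  have hNtop : N ≠ ⊤ := by
    intro h
    obtain ⟨g, hg⟩ := hne
    exact hg ((hNcj g).1 (h ▸ Subgroup.mem_top g))
  have hAN : A ≤ N := Subgroup.le_normalizer
  -- the action on the cosets of `N`
  let _ : Fintype (G ⧸ N) := Fintype.ofFinite _
  have hfaith : FaithfulSMul G (G ⧸ N) := by
    constructor
    intro g g' h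
    have hker : g⁻¹ * g' ∈ N.normalCore := by
      rw [Subgroup.normalCore_eq_ker, MonoidHom.mem_ker]
      ext x
      show (g⁻¹ * g') • x = x
      rw [mul_smul, ← h x, inv_smul_smul]
    have h1 : N.normalCore = ⊥ := by
      rcases (Subgroup.normalCore_normal N).eq_bot_or_eq_top with h1 | h1
      · exact h1
      · exact absurd (top_le_iff.1 (h1 ▸ Subgroup.normalCore_le N)) hNtop
    rw [h1, Subgroup.mem_bot] at hker
    exact (inv_mul_eq_one.1 hker)
  have h2t : MulAction.IsMultiplyPretransitive G (G ⧸ N) 2 := by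
    rw [MulAction.is_two_pretransitive_iff]
    intro a b c d hab hcd
    obtain ⟨g1, rfl⟩ := QuotientGroup.mk_surjective a
    obtain ⟨g2, rfl⟩ := QuotientGroup.mk_surjective b
    obtain ⟨g3, rfl⟩ := QuotientGroup.mk_surjective c
    obtain ⟨g4, rfl⟩ := QuotientGroup.mk_surjective d
    have h1 : cj A (g1⁻¹ * g2) ≠ A := fun h => hab (QuotientGroup.eq.2 ((hNcj _).2 h))
    have h2 : cj A (g3⁻¹ * g4) ≠ A := fun h => hcd (QuotientGroup.eq.2 ((hNcj _).2 h))
    obtain ⟨z, hz⟩ := htr ⟨_, ⟨_, rfl⟩, h1⟩ ⟨_, ⟨_, rfl⟩, h2⟩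
    have hz' : cj (cj A (g1⁻¹ * g2)) (z : G) = cj A (g3⁻¹ * g4) := congrArg Subtype.val hz
    rw [cj_cj] at hz'
    have hzN : (z : G) ∈ N := (hNcj _).2 (cent_cj _ z.2)
    refine ⟨g3 * z * g1⁻¹, ?_, ?_⟩
    · show (((g3 * z * g1⁻¹) * g1 : G) : G ⧸ N) = (g3 : G ⧸ N)
      rw [inv_mul_cancel_right]
      refine (QuotientGroup.eq.2 ?_).symm
      rwa [inv_mul_cancel_left]
    · show (((g3 * z * g1⁻¹) * g2 : G) : G ⧸ N) = (g4 : G ⧸ N)
      refine QuotientGroup.eq.2 ?_
      rw [hNcj]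
      have e1 : (g3 * z * g1⁻¹ * g2)⁻¹ * g4 = (z * (g1⁻¹ * g2))⁻¹ * (g3⁻¹ * g4) := by group
      rw [e1, ← cj_cj, ← hz', cj_cj, inv_mul_cancel, cj_one]
  have hst : MulAction.stabilizer G ((1 : G) : G ⧸ N) = N := by
    ext g
    rw [MulAction.mem_stabilizer_iff]
    show ((g * 1 : G) : G ⧸ N) = ((1 : G) : G ⧸ N) ↔ _
    rw [mul_one, eq_comm, QuotientGroup.eq, inv_one, one_mul]
  -- `A` fixes exactly one point
  have hfix : Fintype.card (G ⧸ N) ≡ 1 [MOD p] := by
    have := Fact.mk hp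
    have hpg : IsPGroup p A := IsPGroup.of_card (n := 1) (by rw [hA, pow_one])
    have h1 := hpg.card_modEq_card_fixedPoints (G ⧸ N)
    rw [Nat.card_eq_fintype_card] at h1
    have h2 : MulAction.fixedPoints A (G ⧸ N) = {((1 : G) : G ⧸ N)} := by
      ext x
      obtain ⟨g, rfl⟩ := QuotientGroup.mk_surjective x
      rw [MulAction.mem_fixedPoints, Set.mem_singleton_iff]
      constructor
      · intro h
        -- `g⁻¹ A g ≤ N`
        have h3 : ∀ b ∈ cj A g⁻¹, cj A b = A := by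
          intro b hb
          rw [mem_cj, inv_inv] at hb
          have h4 := h ⟨_, hb⟩
          have h5 : ((g * b * g⁻¹ * g : G) : G ⧸ N) = ((g : G) : G ⧸ N) := h4
          have h6 := QuotientGroup.eq.1 h5
          rw [← hNcj]
          have h7 : (g * b * g⁻¹ * g)⁻¹ * g = b⁻¹ := by group
          rw [h7] at h6
          exact N.inv_mem_iff.1 h6
        have h4 := eq_of_norm hp A (cj A g⁻¹) hA (by rw [cj_card, hA]) h3
        have h5 := hnc _ h4
        refine (QuotientGroup.eq.2 ?_)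
        rw [hNcj, mul_one]
        exact h5
      · intro h a
        rw [h]
        show (((a : G) * 1 : G) : G ⧸ N) = ((1 : G) : G ⧸ N)
        rw [mul_one, eq_comm, QuotientGroup.eq, inv_one, one_mul]
        exact hAN a.2
    rw [h2] at h1
    simpa using h1
  have hncl : Subgroup.normalClosure (A : Set G) = ⊤ := by
    rcases (Subgroup.normalClosure_normal (s := (A : Set G))).eq_bot_or_eq_top with h | h
    · exfalso
      apply hAbot
      rw [eq_bot_iff, ← h]
      exact Subgroup.subset_normalClosure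
    · exact h
  have hcyc : IsCyclic A := by
    have := Fact.mk hp
    exact isCyclic_of_prime_card hA
  have hQn : (A.subgroupOf N).Normal := by rw [hN]; exact Subgroup.normal_in_normalizer
  rcases H (G ⧸ N) h2t ((1 : G) : G ⧸ N) A (by rw [hst]; exact hAN) (by rw [hst]; exact hQn) hAbot hcyc with
    h | h | h | h
  · -- regular normal subgroup
    exfalso
    obtain ⟨M, hM, hMt, hMs⟩ := h
    rcases hM.eq_bot_or_eq_top with h1 | h1
    · obtain ⟨g, hg⟩ := hne
      obtain ⟨m, hm⟩ := hMt.exists_smul_eq ((1 : G) : G ⧸ N) ((g : G) : G ⧸ N)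
      have h2 : (m : G) = 1 := by
        have h2 : ∀ x ∈ M, x = 1 := by
          intro x hx
          rw [h1, Subgroup.mem_bot] at hx
          exact hx
        exact h2 m m.2
      have h3 : ((m : G) • ((1 : G) : G ⧸ N)) = ((g : G) : G ⧸ N) := hm
      rw [h2, one_smul, QuotientGroup.eq, inv_one, one_mul, hNcj] at h3
      exact hg h3
    · apply hAbot
      rw [eq_bot_iff]
      intro a ha
      have h2 := hMs ((1 : G) : G ⧸ N)
      have h3 : (⟨a, h1 ▸ Subgroup.mem_top a⟩ : M) ∈ MulAction.stabilizer M ((1 : G) : G ⧸ N) := by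
        rw [MulAction.mem_stabilizer_iff]
        show a • ((1 : G) : G ⧸ N) = _
        rw [← MulAction.mem_stabilizer_iff, hst]
        exact hAN ha
      have h4 : (⟨a, h1 ▸ Subgroup.mem_top a⟩ : M) ∈ (⊥ : Subgroup M) := by rw [← h2]; exact h3
      rw [Subgroup.mem_bot] at h4 ⊢
      exact congrArg Subtype.val h4
  · obtain ⟨F, i1, i2, hc, ⟨e⟩⟩ := h
    refine ⟨F, i1, i2, ?_, Or.inl ?_⟩
    · apply dvd_of_ringChar hp
      rw [hc] at hfix
      have := (Nat.modEq_iff_dvd' (by omega : 1 ≤ Fintype.card F + 1)).1 hfix.symm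
      simpa using this
    · rw [hncl] at e
      exact ⟨Subgroup.topEquiv.symm.trans e⟩
  · obtain ⟨F, i1, i2, q, hF, hc, ⟨e⟩⟩ := h
    refine ⟨F, i1, i2, ?_, Or.inr ⟨q, hF, ?_⟩⟩
    · apply dvd_of_ringChar hp
      rw [hc] at hfix
      have := (Nat.modEq_iff_dvd' (by omega : 1 ≤ q ^ 3 + 1)).1 hfix.symm
      have h1 : p ∣ q ^ 3 := by simpa using this
      rw [hF]
      exact dvd_pow (hp.dvd_of_dvd_pow h1) (by norm_num)
    · rw [hncl] at e
      exact ⟨Subgroup.topEquiv.symm.trans e⟩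
  · exfalso
    rw [h.1] at hfix
    have h1 := (Nat.modEq_iff_dvd' (by norm_num : 1 ≤ 28)).1 hfix.symm
    have h2 : p ∣ 3 ^ 3 := by simpa using h1
    have h3 := Nat.le_of_dvd (by norm_num) (hp.dvd_of_dvd_pow h2)
    omega

end Cfsg.Agent.H333.KeyGTwo
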