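import Cfsg.Agent.H333.SLTwoLine

/-!
# Transitivity of the centralizer on the other points (helper333, for S3235)
-/

set_option autoImplicit false

namespace Cfsg.Agent.H333.LineTrans

open Cfsg.Agent.H333.SLTwoLine Subgroup

variable {G : Type*} [Group G]

/-- conjugate subgroup -/
abbrev cj (A : Subgroup G) (g : G) : Subgroup G := A.map (MulAut.conj g).toMonoidHom

theorem mem_cj {A : Subgroup G} {g x : G} : x ∈ cj A g ↔ g⁻¹ * x * g ∈ A := by
  constructor
  · rintro ⟨a, ha, rfl⟩
    have : g⁻¹ * ((MulAut.conj g).toMonoidHom a) * g = a := by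
      show g⁻¹ * (g * a * g⁻¹) * g = a
      group
    rwa [this]
  · intro h
    exact ⟨_, h, by show g * (g⁻¹ * x * g) * g⁻¹ = x; group⟩

theorem cj_cj (A : Subgroup G) (g h : G) : cj (cj A g) h = cj A (h * g) := by
  ext x
  rw [mem_cj, mem_cj, mem_cj]
  have : g⁻¹ * (h⁻¹ * x * h) * g = (h * g)⁻¹ * x * (h * g) := by group
  rw [this]

theorem cj_one (A : Subgroup G) : cj A 1 = A := by
  ext x; rw [mem_cj]; simp

theorem cj_card (A : Subgroup G) (g : G) : Nat.card (cj A g) = Nat.card A :=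
  (Nat.card_congr (A.equivMapOfInjective _ (MulAut.conj g).injective).toEquiv).symm

theorem cj_inj {A B : Subgroup G} {g : G} (h : cj A g = cj B g) : A = B := by
  have := congrArg (fun X => cj X g⁻¹) h
  simpa only [cj_cj, inv_mul_cancel, cj_one] using this

/-- `y` normalises `A` of prime order: a multiplier exists -/
theorem exists_mult {p : ℕ} (hp : p.Prime) (A : Subgroup G) (hA : Nat.card A = p) (y : G)
    (hy : cj A y = A) : ∃ k : ℕ, ∀ a ∈ A, y * a * y⁻¹ = a ^ k := by
  obtain ⟨a, haA, hao, hAa⟩ := exists_gen hp A hA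
  have h1 : y * a * y⁻¹ ∈ A := by
    rw [← hy]; exact ⟨a, haA, rfl⟩
  rw [hAa, ← (orderOf_pos_iff.1 (hao ▸ hp.pos)).mem_powers_iff_mem_zpowers, Submonoid.mem_powers_iff] at h1
  obtain ⟨k, hk⟩ := h1
  refine ⟨k, ?_⟩
  intro b hb
  rw [hAa] at hb
  obtain ⟨i, rfl⟩ := hb
  show y * a ^ i * y⁻¹ = (a ^ i) ^ k
  rw [← conj_zpow, ← hk, ← zpow_natCast, ← zpow_natCast, ← zpow_mul, ← zpow_mul, mul_comm]

theorem cj_eq_of_forall {A : Subgroup G} [Finite A] {y : G} (h : ∀ a ∈ A, y * a * y⁻¹ ∈ A) : cj A y = A := by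
  apply Subgroup.eq_of_le_of_card_ge
  · rintro x ⟨a, ha, rfl⟩
    exact h a ha
  · rw [cj_card]

/-- the action of the centralizer of `A` on the conjugates different from `A` -/
def Pts (A : Subgroup G) : Type _ := {B : Subgroup G // (∃ g, B = cj A g) ∧ B ≠ A}

theorem cent_cj {A : Subgroup G} (c : G) (hc : c ∈ Subgroup.centralizer (A : Set G)) : cj A c = A := by
  ext x
  rw [mem_cj]
  rw [Subgroup.mem_centralizer_iff] at hc
  constructor
  · intro h
    have h1 := hc _ h
    have : x = c⁻¹ * x * c := by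
      have h2 : x * c = c * (c⁻¹ * x * c) := by group
      have h3 : x * c = (c⁻¹ * x * c) * c := by rw [h2]; exact h1.symm
      exact mul_right_cancel h3
    rw [this]; exact h
  · intro h
    have h1 := hc x h
    have : c⁻¹ * x * c = x := by rw [mul_assoc, h1]; group
    rw [this]; exact h

instance ptsAction (A : Subgroup G) : MulAction (Subgroup.centralizer (A : Set G)) (Pts A) where
  smul c B := ⟨cj B.1 c, ⟨by obtain ⟨g, hg⟩ := B.2.1; exact ⟨c * g, by rw [hg, cj_cj]⟩, by
    intro h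
    apply B.2.2
    have h2 : cj B.1 c = cj A c := by rw [h, cent_cj _ c.2]
    exact cj_inj h2⟩⟩
  one_smul B := Subtype.ext (cj_one B.1)
  mul_smul c c' B := Subtype.ext (cj_cj B.1 c' c).symm

theorem smul_val (A : Subgroup G) (c : Subgroup.centralizer (A : Set G)) (B : Pts A) :
    (c • B).1 = cj B.1 c := rfl

variable [Finite G]

theorem trans {p : ℕ} (hp : p.Prime) (hp7 : 7 ≤ p) (A : Subgroup G) (hA : Nat.card A = p)
    (hL : ∀ g h : G, cj A g ≠ cj A h → Line p (cj A g) (cj A h)) (B B' : Pts A) :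
    ∃ c : Subgroup.centralizer (A : Set G), c • B = B' := by
  classical
  have hp2 : p ≠ 2 := by omega
  have : Finite (Pts A) := by unfold Pts; infer_instance
  -- the first element with multiplier `4`
  have hLA : ∀ E : Pts A, Line p A E.1 := by
    intro E
    obtain ⟨⟨g, hg⟩, hne⟩ := E.2
    have := hL 1 g (by rw [cj_one, ← hg]; exact fun h => hne h.symm)
    rwa [cj_one, ← hg] at this
  obtain ⟨y0, hy0, hy0B⟩ := (hLA B).exists_four hp hp2
  have hy0' : ∀ a ∈ A, y0⁻¹ * a ^ 4 * y0 = a := by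
    intro a ha; rw [← hy0 a ha]; group
  -- for every point `E` an element `c` of the centralizer with `y0 c` normalising `E`
  have hc : ∀ E : Pts A, ∃ c : Subgroup.centralizer (A : Set G), cj E.1 (y0 * c) = E.1 := by
    intro E
    obtain ⟨y, hy, hyE⟩ := (hLA E).exists_four hp hp2
    have hcm : y0⁻¹ * y ∈ Subgroup.centralizer (A : Set G) := by
      rw [Subgroup.mem_centralizer_iff]
      intro a ha
      have h1 : (y0⁻¹ * y) * a * (y0⁻¹ * y)⁻¹ = a := by
        have : (y0⁻¹ * y) * a * (y0⁻¹ * y)⁻¹ = y0⁻¹ * (y * a * y⁻¹) * y0 := by group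
        rw [this, hy a ha, hy0' a ha]
      exact (mul_inv_eq_iff_eq_mul.1 h1).symm
    refine ⟨⟨_, hcm⟩, ?_⟩
    show cj E.1 (y0 * (y0⁻¹ * y)) = E.1
    rw [mul_inv_cancel_left]
    exact cj_eq_of_forall hyE
  choose c hcE using hc
  -- an element `y0 c` fixes at most one point
  have huniq : ∀ (z : Subgroup.centralizer (A : Set G)) (E E' : Pts A), cj E.1 (y0 * z) = E.1 →
      cj E'.1 (y0 * z) = E'.1 → E = E' := by
    intro z E E' hE hE'
    by_contra hne
    have hne' : E.1 ≠ E'.1 := fun h => hne (Subtype.ext h)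
    obtain ⟨⟨g, hg⟩, hgA⟩ := E.2
    obtain ⟨⟨g', hg'⟩, hgA'⟩ := E'.2
    have hLE : Line p E.1 E'.1 := by
      have := hL g g' (by rw [← hg, ← hg']; exact hne')
      rwa [← hg, ← hg'] at this
    obtain ⟨k, hk⟩ := exists_mult hp E.1 (by rw [hg, cj_card, hA]) _ hE
    obtain ⟨k', hk'⟩ := exists_mult hp E'.1 (by rw [hg', cj_card, hA]) _ hE'
    have hz4 : ∀ a ∈ A, (y0 * z) * a * (y0 * z)⁻¹ = a ^ 4 := by
      intro a ha
      have h1 := Subgroup.mem_centralizer_iff.1 z.2 a ha
      have h2 : (z : G) * a * (z : G)⁻¹ = a := by rw [← h1]; group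
      have : (y0 * (z : G)) * a * (y0 * z)⁻¹ = y0 * (z * a * (z : G)⁻¹) * y0⁻¹ := by group
      rw [this, h2, hy0 a ha]
    have e1 := (hLA E).mul_eq_one hp hp2 _ 4 k hz4 hk
    have e2 := (hLA E').mul_eq_one hp hp2 _ 4 k' hz4 hk'
    have e3 := hLE.mul_eq_one hp hp2 _ k k' hk hk'
    have e4 : 4 * k * (4 * k') ≡ 1 [MOD p] := by simpa using e1.mul e2
    have e5 : 4 * k * (4 * k') ≡ 16 [MOD p] := by
      have : 4 * k * (4 * k') = 16 * (k * k') := by ring
      rw [this]
      simpa using (Nat.ModEq.refl 16).mul e3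
    have e6 : 16 ≡ 1 [MOD p] := e5.symm.trans e4
    have e7 : p ∣ 15 := by
      have := (Nat.modEq_iff_dvd' (by norm_num : 1 ≤ 16)).1 e6.symm
      simpa using this
    have e8 : p ∣ 3 * 5 := by simpa using e7
    rcases (Nat.Prime.dvd_mul hp).1 e8 with h | h
    · have := Nat.le_of_dvd (by norm_num) h; omega
    · have := Nat.le_of_dvd (by norm_num) h; omega
  -- the injection
  have hinj : Function.Injective (fun x : (Σ z : Subgroup.centralizer (A : Set G), MulAction.fixedBy (Pts A) z) =>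
      c x.2.1 * x.1) := by
    rintro ⟨z, E, hE⟩ ⟨z', E', hE'⟩ h
    simp only at h
    have hE1 : cj E.1 (z : G) = E.1 := congrArg Subtype.val hE
    have hE2 : cj E'.1 (z' : G) = E'.1 := congrArg Subtype.val hE'
    have h1 : cj E.1 (y0 * (c E * z : Subgroup.centralizer (A : Set G))) = E.1 := by
      rw [Subgroup.coe_mul, ← mul_assoc, ← cj_cj, hE1, hcE]
    have h2 : cj E'.1 (y0 * (c E * z : Subgroup.centralizer (A : Set G))) = E'.1 := by
      rw [h, Subgroup.coe_mul, ← mul_assoc, ← cj_cj, hE2, hcE]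
    have h3 : E = E' := huniq _ E E' h1 h2
    subst h3
    have h4 : z = z' := mul_left_cancel h
    subst h4
    rfl
  have hcard := Nat.card_le_card_of_injective _ hinj
  rw [Nat.card_congr (MulAction.sigmaFixedByEquivOrbitsProdGroup (Subgroup.centralizer (A : Set G)) (Pts A)),
    Nat.card_prod] at hcard
  have hpos : 0 < Nat.card (Subgroup.centralizer (A : Set G)) := Nat.card_pos
  have h1 : Nat.card (Quotient (MulAction.orbitRel (Subgroup.centralizer (A : Set G)) (Pts A))) ≤ 1 := by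
    by_contra h
    push Not at h
    nlinarith
  have hsub : Subsingleton (Quotient (MulAction.orbitRel (Subgroup.centralizer (A : Set G)) (Pts A))) :=
    (Finite.card_le_one_iff_subsingleton).1 h1
  have h2 := Quotient.exact (hsub.elim (Quotient.mk _ B') (Quotient.mk _ B))
  obtain ⟨z, hz⟩ := h2
  exact ⟨z, hz⟩

end Cfsg.Agent.H333.LineTrans
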