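import Mathlib
import Cfsg.Prelude
import Cfsg.Agent.TypeSpFour.Model
import Cfsg.Agent.ThreePrime.SzDataExists
import Cfsg.Agent.Lib.Zsigmondy
import Cfsg.Agent.S0245
import Cfsg.Agent.S1163

/-!
# S3145, piece OutSz, step 2 (helper333)

`L ≅ PSp₄(F₁)`, `F₁` of characteristic two, `x` an automorphism with `x² = 1`, `A ≅ Sz(F)` normal in `C_L(x)` with trivial
centralizer: `|F₁| = |F|`.
-/

set_option autoImplicit false
set_option linter.unusedSectionVars false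

namespace Cfsg.Agent.H333.OutSzB

open Cfsg Subgroup
open Cfsg.Agent.TypeSpFour.Half

/-- an involutory automorphism normalises a Sylow 2-subgroup -/
theorem exists_fixed_sylow {L : Type*} [Group L] [Finite L] {x : MulAut L} (hx : x * x = 1) :
    ∃ Q : Sylow 2 L, ∀ s ∈ (Q : Subgroup L), x s ∈ (Q : Subgroup L) := by
  have : Fact (Nat.Prime 2) := ⟨Nat.prime_two⟩
  have hz : IsPGroup 2 (Subgroup.zpowers x) := by
    rintro ⟨y, k, rfl⟩
    refine ⟨1, ?_⟩
    apply Subtype.ext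
    show (x ^ k) ^ 2 ^ 1 = 1
    rw [← zpow_natCast, zpow_comm, zpow_natCast, pow_one, pow_two, hx, one_zpow]
  obtain ⟨Q, hQ⟩ := hz.nonempty_fixed_point_of_prime_not_dvd_card (Sylow 2 L) (by
    have h2 := card_sylow_modEq_one 2 L
    intro h3
    have h4 := (Nat.modEq_zero_iff_dvd.2 h3).symm.trans h2
    revert h4
    decide)
  have hQx : x • Q = Q := hQ ⟨x, Subgroup.mem_zpowers x⟩
  refine ⟨Q, fun s hs => ?_⟩
  have h1 : x s ∈ ((x • Q : Sylow 2 L) : Subgroup L) := by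
    rw [Sylow.pointwise_smul_def]
    exact Subgroup.smul_mem_pointwise_smul _ x _ hs
  rwa [hQx] at h1

section center

variable {L : Type*} [Group L] {F₁ : Type*} [Field F₁] {S A B : Subgroup L} {xx y c d : F₁ → L}

/-- the centre of `S` is `A ⊓ B` -/
theorem mem_inter_iff (H : HalfC2 S A B xx y c d) {z : L} : z ∈ A ⊓ B ↔ z ∈ S ∧ ∀ s ∈ S, z * s = s * z := by
  constructor
  · rintro ⟨hA, hB⟩
    refine ⟨H.A_le hA, fun s hs => ?_⟩
    obtain ⟨a, ha, b, hb, rfl⟩ := H.prod s hs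
    rw [← mul_assoc, H.A_comm z hA a ha, mul_assoc, H.B_comm z hB b hb, mul_assoc]
  · rintro ⟨hS, hz⟩
    obtain ⟨a, ha, haB⟩ := H.neA
    obtain ⟨b, hb, hbA⟩ := H.neB
    exact ⟨H.centA a ha haB z hS (hz a (H.A_le ha)).symm, H.centB b hb hbA z hS (hz b (H.B_le hb)).symm⟩

end center

/-- the fixed points on an abelian group of exponent 2 -/
theorem card_le_sq {L : Type*} [Group L] [Finite L] {x : MulAut L} (hx : x * x = 1) (Z : Subgroup L)
    (hc : ∀ a ∈ Z, ∀ b ∈ Z, a * b = b * a) (h2 : ∀ a ∈ Z, a * a = 1) (hxZ : ∀ a ∈ Z, x a ∈ Z) :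
    Nat.card Z ≤ Nat.card ↥(Z ⊓ fixedSubgroup x) ^ 2 := by
  have hxx : ∀ a, x (x a) = a := fun a => by rw [← MulAut.mul_apply, hx]; rfl
  let f : Z →* L :=
    { toFun := fun a => a * x a
      map_one' := by simp
      map_mul' := by
        intro a b
        show (a : L) * b * x ((a : L) * b) = a * x a * (b * x b)
        rw [map_mul]
        have h1 := hc b b.2 (x a) (hxZ a a.2)
        calc (a : L) * b * (x a * x b) = a * (b * x a) * x b := by group
          _ = a * x a * (b * x b) := by rw [h1]; group }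
  have hker : Nat.card f.ker ≤ Nat.card ↥(Z ⊓ fixedSubgroup x) := by
    refine Nat.card_le_card_of_injective (fun a => (⟨(a : Z), (a : Z).2, ?_⟩ : ↥(Z ⊓ fixedSubgroup x))) ?_
    · have h1 : ((a : Z) : L) * x (a : Z) = 1 := a.2
      show x ((a : Z) : L) = (a : Z)
      have h3 := h2 _ (a : Z).2
      exact mul_left_cancel (h1.trans h3.symm)
    · intro a b hab
      exact Subtype.ext (Subtype.ext (congrArg (fun t : ↥(Z ⊓ fixedSubgroup x) => (t : L)) hab))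
  have hran : Nat.card f.range ≤ Nat.card ↥(Z ⊓ fixedSubgroup x) := by
    refine Subgroup.card_le_of_le ?_
    rintro _ ⟨a, rfl⟩
    refine ⟨mul_mem a.2 (hxZ a a.2), ?_⟩
    show x ((a : L) * x a) = a * x a
    rw [map_mul, hxx, hc _ (hxZ a a.2) a a.2]
  have h1 : Nat.card Z = Nat.card f.ker * Nat.card f.range := by
    rw [← Subgroup.card_mul_index f.ker, Subgroup.index_ker]
  rw [h1, pow_two]
  exact Nat.mul_le_mul hker hran

/-- an elementary abelian 2-subgroup of a Suzuki group has order at most `q` -/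
theorem card_le_of_exp {J : Type*} [Group J] [Finite J] {F : Type*} [Field F] [Fintype F]
    (R : Cfsg.Agent.ThreePrime.SzRel.Rel J F) {m : ℕ} (hm : 1 ≤ m) (hF : Fintype.card F = 2 ^ (2 * m + 1)) (E : Subgroup J)
    (h2 : ∀ a ∈ E, a * a = 1) : Nat.card E ≤ Nat.card F := by
  have : Fact (Nat.Prime 2) := ⟨Nat.prime_two⟩
  obtain ⟨Sy, hSy⟩ := R.exists_sylow_eq hm hF
  have hE : IsPGroup 2 E := by
    intro a
    refine ⟨1, ?_⟩
    apply Subtype.ext
    show (a : J) ^ 2 ^ 1 = 1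
    rw [pow_one, pow_two, h2 a a.2]
  obtain ⟨Q, hQ⟩ := hE.exists_le_sylow
  obtain ⟨g, hg⟩ := MulAction.exists_smul_eq J Q Sy
  have key : ∀ a : E, ∃ b : F, g * (a : J) * g⁻¹ = R.u 0 b := by
    intro a
    have h3 : g * (a : J) * g⁻¹ ∈ R.T := by
      rw [← hSy, ← hg, Sylow.coe_subgroup_smul]
      exact Subgroup.smul_mem_pointwise_smul (a : J) (MulAut.conj g) _ (hQ a.2)
    obtain ⟨c, b, hcb⟩ := h3
    have h4 : R.u c b * R.u c b = 1 := by
      rw [← hcb]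
      calc g * (a : J) * g⁻¹ * (g * (a : J) * g⁻¹) = g * ((a : J) * a) * g⁻¹ := by group
        _ = 1 := by rw [h2 a a.2]; group
    have h5 := (R.u_sq_iff c b).1 h4
    subst h5
    exact ⟨b, hcb⟩
  choose b hb using key
  refine Nat.card_le_card_of_injective b ?_
  intro a a' h
  have h1 := hb a
  rw [h, ← hb a'] at h1
  exact Subtype.ext (mul_left_cancel (mul_right_cancel h1))

section main

variable {L : Type*} [Group L] [Finite L] {F₁ : Type*} [Field F₁] [Fintype F₁] {F : Type*} [Field F] [Fintype F]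
  {m : ℕ} {x : MulAut L} {A : Subgroup ↥(fixedSubgroup x)}

/-- `|F₁| ≤ |F|` -/
theorem card_le (hm : 1 ≤ m) (hF : Fintype.card F = 2 ^ (2 * m + 1)) (heven : Even (Fintype.card F₁))
    (h4 : 4 ≤ Fintype.card F₁) (e : L ≃* PSp 2 F₁) (hx : x * x = 1) (hA : A.Normal)
    (hC : centralizer (A : Set ↥(fixedSubgroup x)) = ⊥) (eA : ↥A ≃* ↥(Lie.Sz F (2 ^ (m + 1)))) :
    Nat.card F₁ ≤ Nat.card F := by
  have : Fact (Nat.Prime 2) := ⟨Nat.prime_two⟩
  obtain ⟨Q, hQ⟩ := exists_fixed_sylow hx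
  have hfinP : Finite (PSp 2 F₁) := Finite.of_equiv _ e.toEquiv
  let P' : Sylow 2 (PSp 2 F₁) := Q.mapSurjective (f := e.toMonoidHom) e.surjective
  have eP : Nonempty (↥(Q : Subgroup L) ≃* ↥(P' : Subgroup (PSp 2 F₁))) := by
    refine ⟨((Q : Subgroup L).equivMapOfInjective e.toMonoidHom e.injective).trans (MulEquiv.subgroupCongr ?_)⟩
    exact (Sylow.coe_mapSurjective e.surjective Q).symm
  obtain ⟨Am, B, xx, y, c, d, H⟩ := TypeSpFour.Model.exists_halfC2 heven h4 P' (Q : Subgroup L) eP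
  have hcardZ := H.card_Z
  have hxx : ∀ a, x (x a) = a := fun a => by rw [← MulAut.mul_apply, hx]; rfl
  have h1 : Nat.card F₁ ^ 2 ≤ Nat.card ↥((Am ⊓ B) ⊓ fixedSubgroup x) ^ 2 := by
    rw [← hcardZ]
    refine card_le_sq hx (Am ⊓ B) (fun a ha b hb => H.A_comm a ha.1 b hb.1) (fun a ha => H.A_sq a ha.1) ?_
    intro a ha
    rw [mem_inter_iff H] at ha ⊢
    refine ⟨hQ a ha.1, fun s hs => ?_⟩
    have h2 := ha.2 (x s) (hQ s hs)
    have h3 := congrArg x h2
    rwa [map_mul, map_mul, hxx] at h3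
  have h2 : Nat.card F₁ ≤ Nat.card ↥((Am ⊓ B) ⊓ fixedSubgroup x) := by
    by_contra hlt
    push Not at hlt
    have := Nat.pow_lt_pow_left hlt two_ne_zero
    omega
  refine h2.trans ?_
  let R : Cfsg.Agent.ThreePrime.SzRel.Rel ↥A F :=
    (Cfsg.Agent.ThreePrime.SzRel.ofGood (Cfsg.Agent.LieRecognition.SzMatrix.good hF)).map eA.symm
  -- the involutions of `C_L(x)` lie in `A`
  have hinv : ∀ a : ↥(fixedSubgroup x), a * a = 1 → a ∈ A := by
    intro a ha
    let φ : MulAut ↥A := MulAut.conjNormal a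
    have hφ : φ ^ 2 ^ 1 = 1 := by
      rw [pow_one]
      show (MulAut.conjNormal a : MulAut ↥A) ^ 2 = 1
      rw [← map_pow, pow_two, ha, map_one]
    obtain ⟨b, hb⟩ := R.inner hm hF φ ⟨1, hφ⟩
    have h3 : (b : ↥(fixedSubgroup x))⁻¹ * a ∈ centralizer (A : Set ↥(fixedSubgroup x)) := by
      rw [mem_centralizer_iff]
      intro s hs
      have h4 : (φ ⟨s, hs⟩ : ↥(fixedSubgroup x)) = ((MulAut.conj b ⟨s, hs⟩ : ↥A) : ↥(fixedSubgroup x)) := by rw [hb]
      have h5 : a * s * a⁻¹ = b * s * (b : ↥(fixedSubgroup x))⁻¹ := by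
        have h6 : (φ ⟨s, hs⟩ : ↥(fixedSubgroup x)) = a * s * a⁻¹ := MulAut.conjNormal_apply a ⟨s, hs⟩
        rw [← h6, h4]; rfl
      calc s * ((b : ↥(fixedSubgroup x))⁻¹ * a) = (b : ↥(fixedSubgroup x))⁻¹ * (b * s * (b : ↥(fixedSubgroup x))⁻¹) * a := by group
        _ = (b : ↥(fixedSubgroup x))⁻¹ * a * s := by rw [← h5]; group
    rw [hC, mem_bot, inv_mul_eq_one] at h3
    rw [← h3]
    exact b.2
  have h3 : ∀ a : ↥((Am ⊓ B) ⊓ fixedSubgroup x), (⟨(a : L), a.2.2⟩ : ↥(fixedSubgroup x)) ∈ A := by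
    intro a
    apply hinv
    apply Subtype.ext
    exact H.A_sq _ a.2.1.1
  -- the subgroup of `A`
  let E : Subgroup ↥A := ((((Am ⊓ B) ⊓ fixedSubgroup x).subgroupOf (fixedSubgroup x))).subgroupOf A
  have h4' : Nat.card ↥((Am ⊓ B) ⊓ fixedSubgroup x) ≤ Nat.card E := by
    refine Nat.card_le_card_of_injective (fun a => (⟨⟨⟨(a : L), a.2.2⟩, h3 a⟩, a.2⟩ : E)) ?_
    intro a b hab
    exact Subtype.ext (congrArg (fun t : E => (((t : ↥A) : ↥(fixedSubgroup x)) : L)) hab)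
  refine h4'.trans (card_le_of_exp R hm hF E ?_)
  intro a ha
  apply Subtype.ext
  apply Subtype.ext
  exact H.A_sq _ ha.1.1

/-- `|F|` divides the degree -/
theorem deg_dvd (hm : 1 ≤ m) (hF : Fintype.card F = 2 ^ (2 * m + 1)) {f : ℕ} (hF₁ : Fintype.card F₁ = 2 ^ f)
    (e : L ≃* PSp 2 F₁) (eA : ↥A ≃* ↥(Lie.Sz F (2 ^ (m + 1)))) : 2 * m + 1 ∣ f := by
  obtain ⟨r, hr, hk, -, hr2⟩ := Cfsg.Agent.Lib.Zsigmondy.exists_primitive (a := 2) (n := 4 * (2 * m + 1)) le_rfl (by omega)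
    (by omega) (by omega)
  have h1 : r ∣ 2 ^ (4 * (2 * m + 1)) - 1 := (hk _).2 dvd_rfl
  have h2 : ¬ r ∣ 2 ^ (2 * (2 * m + 1)) - 1 := by
    rw [hk]
    intro h
    have := Nat.le_of_dvd (by omega) h
    omega
  have h3 : r ∣ (2 ^ (2 * m + 1)) ^ 2 + 1 := by
    have h4 : 2 ^ (4 * (2 * m + 1)) - 1 = (2 ^ (2 * (2 * m + 1)) - 1) * ((2 ^ (2 * m + 1)) ^ 2 + 1) := by
      have h5 : 2 ^ (4 * (2 * m + 1)) = (2 ^ (2 * (2 * m + 1))) ^ 2 := by rw [← pow_mul]; congr 1; ring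
      have h6 : (2 ^ (2 * m + 1)) ^ 2 = 2 ^ (2 * (2 * m + 1)) := by rw [← pow_mul]; congr 1; ring
      rw [h5, h6]
      have h7 : 1 ≤ 2 ^ (2 * (2 * m + 1)) := Nat.one_le_two_pow
      generalize 2 ^ (2 * (2 * m + 1)) = a at h7
      obtain ⟨b, rfl⟩ : ∃ b, a = b + 1 := ⟨a - 1, by omega⟩
      rw [Nat.add_sub_cancel]
      have : (b + 1) ^ 2 = b * (b + 1 + 1) + 1 := by ring
      rw [this, Nat.add_sub_cancel]
    rw [h4] at h1
    exact (hr.dvd_mul.1 h1).resolve_left h2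
  have h4 : r ∣ Nat.card ↥A := by
    rw [Nat.card_congr eA.toEquiv, (Cfsg.Agent.S1163.result hm hF).1]
    exact Dvd.dvd.mul_left h3 _
  have h5 : r ∣ Nat.card L :=
    (h4.trans (Subgroup.card_subgroup_dvd_card A)).trans (Subgroup.card_subgroup_dvd_card (fixedSubgroup x))
  have h6 : r ∣ Nat.card (Matrix.symplecticGroup (Fin 2) F₁) := by
    rw [Nat.card_congr e.toEquiv] at h5
    exact h5.trans (Subgroup.card_quotient_dvd_card _)
  rw [Cfsg.Agent.S0245.result (F := F₁) rfl 2] at h6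
  rw [Finset.prod_range_succ, Finset.prod_range_succ, Finset.prod_range_zero, one_mul, hF₁, ← pow_mul, ← pow_mul, ← pow_mul,
    hr.dvd_mul, hr.dvd_mul, hk, hk] at h6
  have h7 : 4 * (2 * m + 1) ∣ 4 * f := by
    rcases h6 with h6 | h6 | h6
    · exact absurd (hr.dvd_of_dvd_pow h6) hr2
    · refine h6.trans ⟨2, by ring⟩
    · refine h6.trans ⟨1, by ring⟩
  exact Nat.dvd_of_mul_dvd_mul_left (by norm_num) h7

/-- **`|F₁| = |F|`** -/
theorem card_eq (hm : 1 ≤ m) (hF : Fintype.card F = 2 ^ (2 * m + 1)) {f : ℕ} (hF₁ : Fintype.card F₁ = 2 ^ f)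
    (h4 : 4 ≤ Fintype.card F₁) (e : L ≃* PSp 2 F₁) (hx : x * x = 1) (hA : A.Normal)
    (hC : centralizer (A : Set ↥(fixedSubgroup x)) = ⊥) (eA : ↥A ≃* ↥(Lie.Sz F (2 ^ (m + 1)))) :
    Fintype.card F₁ = Fintype.card F := by
  have hf : 1 ≤ f := by
    rcases Nat.eq_zero_or_pos f with h | h
    · rw [hF₁, h] at h4; omega
    · exact h
  have h1 := card_le (F := F) hm hF (by rw [hF₁]; exact even_two.pow_of_ne_zero (by omega)) h4 e hx hA hC eA
  have h2 := deg_dvd (F := F) hm hF hF₁ e eA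
  rw [Nat.card_eq_fintype_card, Nat.card_eq_fintype_card, hF₁, hF] at h1
  have h3 := (Nat.pow_le_pow_iff_right (by norm_num : 1 < 2)).1 h1
  have h5 := Nat.le_of_dvd (by omega) h2
  rw [hF₁, hF]
  congr 1
  omega

end main

end Cfsg.Agent.H333.OutSzB
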