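import Mathlib
import Cfsg.Agent.H291.LieTwo
import Cfsg.Agent.OrdDiv.Table
import Cfsg.Agent.LieClassical.FieldTransfer
import Cfsg.Agent.H333.OutSzB
import Cfsg.Agent.H337.Bend.Iface2

/-!
# S3145, piece OutSz (helper333)

Components `Sz(q)` of the fixed points of involutory automorphisms of groups of Lie type of characteristic two: `L ≅ PSp₄(q)`.
-/

set_option autoImplicit false

namespace Cfsg.Agent.H333.OutSz

open Subgroup Cfsg Cfsg.Agent.OrdDiv Cfsg.Agent.H902 Cfsg.Agent.H902.Names Cfsg.Agent.H292.Rows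
open Cfsg.Agent.H291.LieTwo

universe u v

/-- the order of `Sz(q)` has the shape `Sz` -/
theorem sz_real {A : Type u} [Group A] {F : Type} [Field F] [Fintype F] {m : ℕ} (hm : 1 ≤ m)
    (hF : Fintype.card F = 2 ^ (2 * m + 1)) (e : A ≃* ↥(Lie.Sz F (2 ^ (m + 1)))) :
    Art.Real .Sz 2 (2 * m + 1) (Nat.card A) := by
  refine ⟨Nat.prime_two, by omega, ⟨rfl, odd_two_mul_add_one m, by omega⟩, ?_⟩
  rw [Nat.card_congr e.toEquiv, (S1163.result hm hF).1]
  change 1 * _ = (2 ^ (2 * m + 1)) ^ 2 * ((2 ^ (2 * m + 1) - 1) * ((2 ^ (2 * m + 1)) ^ 2 + 1))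
  rw [one_mul, mul_assoc]

/-- three does not divide `q ^ 2 * (q - 1) * (q ^ 2 + 1)` -/
theorem three_not_dvd {M m : ℕ} (hr : Art.Real .Sz 2 (2 * m + 1) M) : ¬ 3 ∣ M := by
  have h1 : 1 * M = (2 ^ (2 * m + 1)) ^ 2 * ((2 ^ (2 * m + 1) - 1) * ((2 ^ (2 * m + 1)) ^ 2 + 1)) := hr.eq
  have h2 : (2 ^ (2 * m + 1)) % 3 = 2 := by
    induction m with
    | zero => rfl
    | succ k ih =>
      have h3 : 2 ^ (2 * (k + 1) + 1) = 2 ^ (2 * k + 1) * 4 := by ring
      rw [h3, Nat.mul_mod]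
      have h4 : (2 ^ (2 * k + 1)) % 3 = 2 := by
        clear h1 hr ih h3
        induction k with
        | zero => rfl
        | succ k ih =>
          have h3 : 2 ^ (2 * (k + 1) + 1) = 2 ^ (2 * k + 1) * 4 := by ring
          rw [h3, Nat.mul_mod, ih]
      rw [h4]
  have hp : Nat.Prime 3 := Nat.prime_three
  rw [one_mul] at h1
  rw [h1]
  generalize 2 ^ (2 * m + 1) = q at h2
  intro h3
  rcases hp.dvd_mul.1 h3 with h4 | h4
  · have h5 := hp.dvd_of_dvd_pow h4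
    omega
  · rcases hp.dvd_mul.1 h4 with h5 | h5
    · omega
    · have h6 : (q ^ 2 + 1) % 3 = 2 := by
        rw [Nat.add_mod, Nat.pow_mod, h2]
      rw [Nat.dvd_iff_mod_eq_zero, h6] at h5
      cases h5

/-- `Sz(q)` is not exceptional -/
theorem not_exc {A : Type v} [Group A] (T : OrderTable.{v}) (h : ExcA A) {m : ℕ}
    (hr : Art.Real .Sz 2 (2 * m + 1) (Nat.card A)) : False := by
  have h3 := three_not_dvd hr
  rcases h with ⟨X, f, hX, hR⟩ | h | h
  · rcases Art.same_char hr hR with ⟨rfl, -⟩ | h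
    · unfold ExcSh at hX
      simp at hX
    · exact h3 (by rw [h]; norm_num)
  · exact h3 (by rw [h]; norm_num)
  · exact h3 (by rw [show Nat.card A = 17971200 from T.spor A (.tits, 17971200) (by decide) h]; norm_num)

/-- **OutSz** -/
theorem outSz_of (T : OrderTable.{u}) : H337.Bend.OutSz.{u} := by
  intro L _ _ _ hna hK x hx hx1 A hA F _ _ m hm hF he
  obtain ⟨e⟩ := he
  have hr := sz_real hm hF e
  have h3 := three_not_dvd hr
  have hN : N2 (.sz (2 ^ (2 * m + 1))) (Nat.card ↥A) := Or.inr ⟨.Sz, 2, 2 * m + 1, .sz 2 (2 * m + 1), hr⟩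
  have hE : ¬ Exc (Nat.card ↥A) := by
    rintro (h | h | h | h | h) <;> exact h3 (by rw [h]; norm_num)
  obtain ⟨-, hAn, hAc⟩ := simple_comp hna hK hx hA
  have hcl : Cla L → Nonempty (L ≃* PSp 2 F) := by
    intro hC
    rcases row_all hC with ⟨g, -, -, h4⟩ | ⟨F₁, i1, i2, i3, hF₁, ⟨e₁⟩⟩
    · exfalso
      obtain ⟨h, h5, -, h7⟩ := h4 x hx hx1 A hA
      rcases n2_unique hN h7 hE with h8 | ⟨_, _, -, -, h8, -⟩ | ⟨_, _, -, -, h8, -⟩
      · rw [← h8] at h5
        cases h5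
      · cases h8
      · cases h8
    · obtain ⟨f, hf, hF1⟩ := card_two F₁
      have h4 : 4 ≤ Fintype.card F₁ := by
        rw [hF1] at hF₁ ⊢
        rcases Nat.lt_or_ge f 2 with h1 | h1
        · obtain rfl : f = 1 := by omega
          omega
        · calc 4 = 2 ^ 2 := by norm_num
            _ ≤ 2 ^ f := Nat.pow_le_pow_right (by norm_num) h1
      have hc := OutSzB.card_eq (F := F) (F₁ := F₁) hm hF hF1 h4 e₁ hx hAn hAc e
      exact ⟨e₁.trans (LieClassical.FieldTransfer.pspCongr 2 (FiniteField.ringEquivOfCardEq hc))⟩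
  have hex : (IsExceptionalChevChar 2 L ∨ IsTwistedE6D4Char 2 L ∨ Lie.IsoSuzuki L ∨ Lie.Iso2F4 L) →
      Nonempty (L ≃* PSp 2 F) :=
    fun h => (not_exc T (excA_of_pair T (H78.TeFour.exc_comp hna h x (by rw [pow_two, hx]) hx1 A hA)) hr).elim
  rcases hK with h | h | h | h | h | h | h | h | ⟨-, h⟩ | ⟨-, h⟩ | ⟨h, -⟩
  · exact hcl (Or.inl h)
  · exact hcl (Or.inr (Or.inr (Or.inl h)))
  · exact hcl (Or.inr (Or.inl h))
  · exfalso
    obtain ⟨F₁, i1, i2, i3, n, hn, ho, -⟩ := h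
    obtain ⟨f, hf, hF1⟩ := card_two F₁
    rw [hF1] at ho
    exact (Nat.not_even_iff_odd.2 ho) ((even_two).pow_of_ne_zero (by omega))
  · exact hcl (Or.inr (Or.inr (Or.inr (Or.inl h))))
  · exact hcl (Or.inr (Or.inr (Or.inr (Or.inr h))))
  · exact hex (Or.inl h)
  · exact hex (Or.inr (Or.inl h))
  · exact hex (Or.inr (Or.inr (Or.inl h)))
  · exact hex (Or.inr (Or.inr (Or.inr h)))
  · omega

/-- **OutSz** -/
theorem outSz : H337.Bend.OutSz.{u} := outSz_of OrdDiv.table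

end Cfsg.Agent.H333.OutSz
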