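import Cfsg.Agent.H333.LineTrans
import Cfsg.Agent.H459.Rad

/-!
# S3235: reduction to a simple group (helper333)
-/

set_option autoImplicit false

namespace Cfsg.Agent.H333.RedSimple

open Cfsg.Agent.H333.SLTwoLine Cfsg.Agent.H333.LineTrans Subgroup
open scoped commutatorElement

variable {G : Type*} [Group G]

/-- elements of order `p ≥ 5` of `(P)SL₂(p^m)` are commutators -/
theorem mem_commutator {K : Type*} [Field K] {p : ℕ} (hp : p.Prime) (hp5 : 5 ≤ p) [CharP K p]
    {φ : Matrix.SpecialLinearGroup (Fin 2) K →* G} (hφ : Ker1 φ) (g : G) (hg : g ∈ φ.range) (hgp : orderOf g = p) :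
    g ∈ ⁅φ.range, φ.range⁆ := by
  obtain ⟨h, b, hb, he⟩ := exists_lift hp (by omega) hφ g hg hgp
  have h20 : (2 : K) ≠ 0 := by
    intro h2
    have : ((2 : ℕ) : K) = 0 := by exact_mod_cast h2
    rw [CharP.cast_eq_zero_iff K p] at this
    have := Nat.le_of_dvd (by norm_num) this
    omega
  have h30 : (3 : K) ≠ 0 := by
    intro h2
    have : ((3 : ℕ) : K) = 0 := by exact_mod_cast h2
    rw [CharP.cast_eq_zero_iff K p] at this
    have := Nat.le_of_dvd (by norm_num) this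
    omega
  have h1 : u b = ⁅d 2 h20, u (b / 3)⁆ := by
    rw [commutatorElement_def, d_u, u_inv, u_mul]
    congr 1
    field_simp
    ring
  have h2 : g = ⁅φ (h * d 2 h20 * h⁻¹), φ (h * u (b / 3) * h⁻¹)⁆ := by
    rw [← map_commutatorElement, he, h1]
    congr 1
    simp only [commutatorElement_def]
    group
  rw [h2]
  exact Subgroup.commutator_mem_commutator (MonoidHom.mem_range.2 ⟨_, rfl⟩) (MonoidHom.mem_range.2 ⟨_, rfl⟩)

/-- the pair condition of S3235 for `A` and its conjugates -/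
def PairA (p : ℕ) (A : Subgroup G) : Prop :=
  ∀ g : G, cj A g ≠ A → (∀ a ∈ A, ∀ b ∈ cj A g, a * b = b * a) ∨
      ∃ (K : Type) (_ : Field K) (_ : Fintype K) (m : ℕ), 1 ≤ m ∧ Fintype.card K = p ^ m ∧
        (Nonempty (↥(A ⊔ cj A g) ≃* Matrix.ProjectiveSpecialLinearGroup (Fin 2) K) ∨
          Nonempty (↥(A ⊔ cj A g) ≃* Matrix.SpecialLinearGroup (Fin 2) K))

theorem comm_of_prime {p : ℕ} (hp : p.Prime) {A : Subgroup G} (hA : Nat.card A = p) :
    ∀ a ∈ A, ∀ b ∈ A, a * b = b * a := by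
  have := Fact.mk hp
  have hc : IsCyclic A := isCyclic_of_prime_card hA
  intro a ha b hb
  exact congrArg Subtype.val ((IsCyclic.isMulCommutative (α := A)).is_comm.comm ⟨a, ha⟩ ⟨b, hb⟩)

theorem comm_of_normal {p : ℕ} (hp : p.Prime) (hp5 : 5 ≤ p) (A : Subgroup G) (hA : Nat.card A = p)
    (hpair : PairA p A) (N : Subgroup G) [N.Normal] (hAN : ¬ A ≤ N) {n : G} (hn : n ∈ N) :
    ∀ a ∈ A, ∀ b ∈ cj A n, a * b = b * a := by
  have hpf := Fact.mk hp
  by_cases hc : cj A n = A
  · rw [hc]; exact comm_of_prime hp hA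
  rcases hpair n hc with h | ⟨K, i1, i2, m, hm, hK, hiso⟩
  · exact h
  exfalso
  apply hAN
  obtain ⟨φ, hφ, hr⟩ := exists_phi (A ⊔ cj A n) hiso
  have hch : CharP K p := charP_of_card_eq_prime_pow hK
  -- the commutator subgroup of `X` lies in `N`
  have h1 : ⁅φ.range, φ.range⁆ ≤ N := by
    rw [hr]
    have h2 : (⁅A ⊔ cj A n, A ⊔ cj A n⁆).map (QuotientGroup.mk' N) = ⊥ := by
      rw [Subgroup.map_commutator, Subgroup.map_sup]
      have h3 : (cj A n).map (QuotientGroup.mk' N) = A.map (QuotientGroup.mk' N) := by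
        ext x
        constructor
        · rintro ⟨y, hy, rfl⟩
          have hy' : n⁻¹ * y * n ∈ A := mem_cj.1 hy
          refine ⟨_, hy', ?_⟩
          have h4 : QuotientGroup.mk' N n = 1 := (QuotientGroup.eq_one_iff n).2 hn
          rw [map_mul, map_mul, map_inv, h4]; simp
        · rintro ⟨y, hy, rfl⟩
          refine ⟨n * y * n⁻¹, ⟨y, hy, rfl⟩, ?_⟩
          have h4 : QuotientGroup.mk' N n = 1 := (QuotientGroup.eq_one_iff n).2 hn
          rw [map_mul, map_mul, map_inv, h4]; simp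
      rw [h3, sup_idem, ← Subgroup.map_commutator]
      have h5 : ⁅A, A⁆ = ⊥ := by
        rw [Subgroup.commutator_eq_bot_iff_le_centralizer]
        intro a ha
        rw [Subgroup.mem_centralizer_iff]
        intro b hb
        exact comm_of_prime hp hA b hb a ha
      rw [h5, Subgroup.map_bot]
    rw [Subgroup.map_eq_bot_iff] at h2
    simpa using h2
  intro a ha
  by_cases ha1 : a = 1
  · rw [ha1]; exact N.one_mem
  have hao : orderOf a = p := by
    have h2 : (⟨a, ha⟩ : A) ^ p = 1 := by rw [← hA]; exact pow_card_eq_one'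
    have h3 : a ^ p = 1 := congrArg Subtype.val h2
    rcases (Nat.dvd_prime hp).1 (orderOf_dvd_of_pow_eq_one h3) with h4 | h4
    · exact absurd (orderOf_eq_one_iff.1 h4) ha1
    · exact h4
  exact h1 (mem_commutator hp hp5 hφ a (hr ▸ Subgroup.mem_sup_left ha) hao)

variable [Finite G]

/-- an abelian normal subgroup of a normal subgroup is trivial -/
theorem eq_bot_of_comm (hS : ∀ M : Subgroup G, M.Normal → Group.IsSolvable ↥M → M = ⊥) (N : Subgroup G)
    [hN : N.Normal] (Y : Subgroup G) (hYN : Y ≤ N) (hn : ∀ n ∈ N, ∀ y ∈ Y, n * y * n⁻¹ ∈ Y)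
    (hc : ∀ x ∈ Y, ∀ y ∈ Y, x * y = y * x) : Y = ⊥ := by
  have h1 : (solvableRadical N).map N.subtype = ⊥ := by
    have hch : (solvableRadical N).Characteristic := (H459.Rad.rad_spec N).1
    have hs : Group.IsSolvable (solvableRadical N) := (H459.Rad.rad_spec N).2.1
    apply hS
    · exact ConjAct.normal_of_characteristic_of_normal
    · exact Group.isSolvable_of_isSolvable_injective
        (f := ((solvableRadical N).equivMapOfInjective N.subtype N.subtype_injective).symm.toMonoidHom)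
        (MulEquiv.injective _)
  have h2 : (Y.subgroupOf N) ≤ solvableRadical N := by
    apply H459.Rad.le_rad
    · constructor
      intro y hy n
      exact hn n n.2 y hy
    · apply Group.isSolvable_of_comm
      intro x y
      apply Subtype.ext
      apply Subtype.ext
      exact hc _ x.2 _ y.2
  rw [eq_bot_iff]
  intro y hy
  have h3 : (y : G) ∈ (solvableRadical N).map N.subtype := ⟨⟨y, hYN hy⟩, h2 hy, rfl⟩
  rwa [h1] at h3

/-- **reduction to a simple group** -/
theorem isSimpleGroup {p : ℕ} (hp : p.Prime) (hp5 : 5 ≤ p)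
    (hS : ∀ M : Subgroup G, M.Normal → Group.IsSolvable ↥M → M = ⊥)
    (A : Subgroup G) (hA : Nat.card A = p) (hgen : (⨆ g : G, cj A g) = ⊤) (hpair : PairA p A) :
    IsSimpleGroup G := by
  have hAbot : A ≠ ⊥ := by
    rintro rfl
    rw [Subgroup.card_bot] at hA
    exact hp.one_lt.ne hA
  have hnt : Nontrivial G := by
    obtain ⟨a, ha, ha1⟩ := (Subgroup.ne_bot_iff_exists_ne_one.1 hAbot) |> fun ⟨a, ha⟩ => (⟨a.1, a.2, fun h => ha (Subtype.ext h)⟩ : ∃ a : G, a ∈ A ∧ a ≠ 1)
    exact ⟨a, 1, ha1⟩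
  refine ⟨fun N hN => ?_⟩
  by_cases hAN : A ≤ N
  · right
    rw [eq_top_iff, ← hgen]
    refine iSup_le fun g => ?_
    rintro x ⟨a, ha, rfl⟩
    exact hN.conj_mem a (hAN ha) g
  left
  -- `A` commutes with its `N`-conjugates
  have h1 : ∀ n ∈ N, ∀ a ∈ A, ∀ b ∈ A, a * (n * b * n⁻¹) = (n * b * n⁻¹) * a := by
    intro n hn a ha b hb
    exact comm_of_normal hp hp5 A hA hpair N hAN hn a ha _ ⟨b, hb, rfl⟩
  set S : Set G := {x | ∃ n ∈ N, ∃ a ∈ A, x = n * a * n⁻¹} with hSdef
  set W := Subgroup.closure S with hW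
  have hSc : ∀ x ∈ S, ∀ y ∈ S, x * y = y * x := by
    rintro x ⟨n, hn, a, ha, rfl⟩ y ⟨m, hm, b, hb, rfl⟩
    have h2 := h1 (n⁻¹ * m) (N.mul_mem (N.inv_mem hn) hm) a ha b hb
    have e1 : n * a * n⁻¹ * (m * b * m⁻¹) = n * (a * (n⁻¹ * m * b * (n⁻¹ * m)⁻¹)) * n⁻¹ := by group
    have e2 : m * b * m⁻¹ * (n * a * n⁻¹) = n * ((n⁻¹ * m * b * (n⁻¹ * m)⁻¹) * a) * n⁻¹ := by group
    rw [e1, e2, h2]
  have hWc : ∀ x ∈ W, ∀ y ∈ W, x * y = y * x := by
    intro x hx y hy
    exact Subgroup.closure_induction₂ (p := fun x y _ _ => x * y = y * x) (fun x y hx hy => hSc x hx y hy)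
      (by intros; simp) (by intros; simp)
      (by intro x y z _ _ _ h1 h2; rw [mul_assoc, h2, ← mul_assoc, h1, mul_assoc])
      (by intro x y z _ _ _ h1 h2; rw [← mul_assoc, h1, mul_assoc, h2, mul_assoc])
      (by intro x y _ _ h; exact (Commute.inv_left h))
      (by intro x y _ _ h; exact (Commute.inv_right h)) hx hy
  have hWN : ∀ n ∈ N, ∀ y ∈ W, n * y * n⁻¹ ∈ W := by
    intro n hn y hy
    induction hy using Subgroup.closure_induction with
    | mem x hx =>
      obtain ⟨m, hm, a, ha, rfl⟩ := hx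
      apply Subgroup.subset_closure
      exact ⟨n * m, N.mul_mem hn hm, a, ha, by group⟩
    | one => simp
    | mul x y _ _ hx hy =>
      have : n * (x * y) * n⁻¹ = (n * x * n⁻¹) * (n * y * n⁻¹) := by group
      rw [this]; exact W.mul_mem hx hy
    | inv x _ hx =>
      have : n * x⁻¹ * n⁻¹ = (n * x * n⁻¹)⁻¹ := by group
      rw [this]; exact W.inv_mem hx
  have hAW : A ≤ W := by
    intro a ha
    exact Subgroup.subset_closure ⟨1, N.one_mem, a, ha, by group⟩
  have h2 := eq_bot_of_comm hS N (W ⊓ N) inf_le_right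
    (fun n hn y hy => ⟨hWN n hn y hy.1, hN.conj_mem y hy.2 n⟩) (fun x hx y hy => hWc x hx.1 y hy.1)
  -- `A` centralises `N`
  have h3 : ∀ a ∈ A, ∀ n ∈ N, a * n = n * a := by
    intro a ha n hn
    have h4 : a * n * a⁻¹ * n⁻¹ ∈ W ⊓ N := by
      refine ⟨?_, ?_⟩
      · have : a * n * a⁻¹ * n⁻¹ = a * (n * a⁻¹ * n⁻¹) := by group
        rw [this]
        exact W.mul_mem (hAW ha) (hWN n hn _ (hAW (A.inv_mem ha)))
      · exact N.mul_mem (hN.conj_mem n hn a) (N.inv_mem hn)
    rw [h2, Subgroup.mem_bot] at h4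
    have h5 : a * n * a⁻¹ = n := mul_inv_eq_one.1 h4
    exact mul_inv_eq_iff_eq_mul.1 h5
  -- so `G` centralises `N`
  have h4 : (⊤ : Subgroup G) ≤ Subgroup.centralizer (N : Set G) := by
    rw [← hgen]
    refine iSup_le fun g => ?_
    rintro x ⟨a, ha, rfl⟩
    rw [Subgroup.mem_centralizer_iff]
    intro n hn
    show n * (g * a * g⁻¹) = (g * a * g⁻¹) * n
    have h5 := h3 a ha (g⁻¹ * n * g) (by simpa using hN.conj_mem n hn g⁻¹)
    have e1 : n * (g * a * g⁻¹) = g * ((g⁻¹ * n * g) * a) * g⁻¹ := by group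
    have e2 : (g * a * g⁻¹) * n = g * (a * (g⁻¹ * n * g)) * g⁻¹ := by group
    rw [e1, e2, h5]
  apply hS N hN
  apply Group.isSolvable_of_comm
  intro x y
  apply Subtype.ext
  exact ((Subgroup.mem_centralizer_iff.1 (h4 (Subgroup.mem_top (y : G)))) x x.2)

end Cfsg.Agent.H333.RedSimple
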